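import Groth.Agent.L28.FTors.Affine

/-!
# The torsion submodule of a quasi-coherent module
-/

set_option autoImplicit false
set_option linter.style.haveILetI false
set_option linter.unusedSectionVars false
set_option backward.isDefEq.respectTransparency false
set_option backward.isDefEq.respectTransparency.types false

universe u

open CategoryTheory CategoryTheory.Limits AlgebraicGeometry TopologicalSpace Opposite

noncomputable section

namespace Groth.L28.QCT

open Groth.L17.FSheaf Groth.L09.IndCoh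

variable {𝔛 : FSch.Sys.{u}}

/-- The torsion submodule. -/
abbrev Γt {h : 𝔛.IsFormal} (M : FSch.ModF 𝔛 h) : FSch.ModF 𝔛 h :=
  _root_.FTors.gammaObj (_root_.FTors.openIdealFam 𝔛 h) M

/-- Its inclusion. -/
abbrev γ {h : 𝔛.IsFormal} (M : FSch.ModF 𝔛 h) : Γt M ⟶ M :=
  (_root_.FTors.gammaι (_root_.FTors.openIdealFam 𝔛 h)).app M

theorem exists_Γt {h : 𝔛.IsFormal} {M : FSch.ModF 𝔛 h} {W : (𝔛.X 0).Opens} {s : SF 𝔛 h M W} (hs : Tors M s) :
    ∃ t : SF 𝔛 h (Γt M) W, apF (γ M) W t = s := ⟨⟨s, hs⟩, rfl⟩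

theorem tors_γ {h : 𝔛.IsFormal} {M : FSch.ModF 𝔛 h} {W : (𝔛.X 0).Opens} (t : SF 𝔛 h (Γt M) W) :
    Tors M (apF (γ M) W t) := t.2

instance mono_γ {h : 𝔛.IsFormal} (M : FSch.ModF 𝔛 h) : Mono (γ M) :=
  ⟨fun {Z} a b hab => SheafOfModules.hom_ext (PresheafOfModules.hom_ext fun W =>
    ModuleCat.hom_ext (LinearMap.ext fun z => Subtype.ext
      (LinearMap.congr_fun (congrArg (fun φ : Z ⟶ M => (φ.val.app W).hom) hab) z)))⟩

theorem isTorsF_Γt {h : 𝔛.IsFormal} (M : FSch.ModF 𝔛 h) : _root_.FTors.IsTorsF 𝔛 h (Γt M) :=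
  fun _ s => Tors.of_mono (γ M) (tors_γ s)

/-- Maps from torsion modules factor through the torsion submodule. -/
theorem exists_lift_Γt {h : 𝔛.IsFormal} {N M : FSch.ModF 𝔛 h} (hN : _root_.FTors.IsTorsF 𝔛 h N) (f : N ⟶ M) :
    ∃ g : N ⟶ Γt M, g ≫ γ M = f :=
  ⟨⟨PresheafOfModules.homMk
      { app := fun X => AddCommGrpCat.ofHom
          { toFun := fun s => (⟨f.val.app X s, _root_.FTors.IsTorsSect.hom f (hN X.unop s)⟩ :
              _root_.FTors.torsSub (_root_.FTors.openIdealFam 𝔛 h) M X.unop)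
            map_zero' := Subtype.ext (map_zero (f.val.app X).hom)
            map_add' := fun s t => Subtype.ext (map_add (f.val.app X).hom s t) }
        naturality := fun X Y g => by
          ext s
          apply Subtype.ext
          exact (_root_.FTors.res_hom N f g.unop s).symm }
      (fun X r s => Subtype.ext ((f.val.app X).hom.map_smul r s))⟩,
    SheafOfModules.hom_ext (PresheafOfModules.hom_ext fun _ => ModuleCat.hom_ext (LinearMap.ext fun _ => rfl))⟩

variable (hX : 𝔛.IsLocNoethFormal) {M : FSch.ModF 𝔛 hX.1} (hM : QR M)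

include hM in
/-- The torsion submodule is generated on affine opens where the module is. -/
theorem genOn_Γt {U : (𝔛.X 0).Opens} (hU : IsAffineOpen U) (hg : GenOn M U) : GenOn (Γt M) U := by
  intro W hW s x hx
  obtain ⟨W₁, hW₁, hxW₁, k, hk⟩ := tors_iff.1 (tors_γ s) x hx
  obtain ⟨V₁, hV₁, hxV₁, hmem⟩ := hg (hW₁.trans hW) (rsF M hW₁ (apF (γ M) W s)) x hxW₁
  obtain ⟨n, g, c, hc⟩ := exists_fin_span hmem
  obtain ⟨p, j, hj, hkill⟩ := exists_J_gens hX (M := M) hU k
  let e := hV₁.trans (hW₁.trans hW)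
  let y : Fin n → SF 𝔛 hX.1 (∐ fun _ : ULift.{u} (Fin p) => M) U := fun i => tup hX M fun l => j l • g i
  obtain ⟨V, hV, hxV, hrel⟩ := relGen_affine hX (qr_coprod hX M hM p) hU y e c (by
    simp only [y, tup_res]
    rw [comb_tup, tup_eq_zero]
    intro l
    have h0 := smul_eq_zero_of_killed (hk.rs hV₁) le_rfl (a := resO 𝔛 hX.1 e (j l)) (by
      rw [pR_resO, RingHom.mem_ker.1 ((O_spec 𝔛 hX hU).2.2 k ▸ hj l)]
      exact map_zero _)
    rw [hc, show rsF M le_rfl (∑ i, c i • rsF M e (g i)) = _ from res_self M _ _, Finset.smul_sum] at h0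
    refine Eq.trans (Finset.sum_congr rfl fun i _ => ?_) h0
    rw [rsF_smul hX, smul_comm]) x hxV₁
  refine ⟨V, hV.trans (hV₁.trans hW₁), hxV, ?_⟩
  obtain ⟨z, hz, hze⟩ := lincomb_mem (w := fun i => rsF M (hV.trans e) (g i))
    (S := (Submodule.span (O 𝔛 hX.1 V) (Set.range fun t : SF 𝔛 hX.1 (Γt M) U => rsF (Γt M) (hV.trans e) t)).map
      (apF (γ M) V)) (fun r hr => by
    simp only [y] at hr
    rw [comb_tup, tup_eq_zero] at hr
    obtain ⟨t, ht⟩ := exists_Γt (_root_.FTors.IsTorsSect.of_killedBy (hkill (∑ i, r i • g i) fun l => by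
      rw [Finset.smul_sum]
      exact Eq.trans (Finset.sum_congr rfl fun i _ => smul_comm _ _ _) (hr l)))
    refine ⟨_, Submodule.subset_span ⟨t, rfl⟩, (apF_rsF _ _ t).trans ((congrArg (rsF M _) ht).trans ?_)⟩
    rw [rsF_sum hX]
    exact Finset.sum_congr rfl fun i _ => rsF_smul hX _ _ _) hrel
  rw [injective_apF (γ M) V ((apF_rsF (γ M) (hV.trans (hV₁.trans hW₁)) s).trans ?_)]
  · exact hz
  rw [hze, ← rsF_rsF M hW₁ (hV.trans hV₁), ← rsF_rsF M hV₁ hV, hc, rsF_comb M e hV]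

include hM in
theorem lGen_Γt (hL : LGen M) : LGen (Γt M) := fun x => by
  obtain ⟨U, hU, hxU, hg⟩ := hL x
  exact ⟨U, hU, hxU, genOn_Γt hX hM hU hg⟩

/-- The torsion submodule of a quasi-coherent module is quasi-coherent torsion. -/
theorem isQCT_Γt [SheafOfModules.IsQuasicoherent.{u} M] : _root_.FTors.IsQCT 𝔛 hX.1 (Γt M) := by
  obtain ⟨hR, hL⟩ := (qcoh_iff hX (M := M)).1 inferInstance
  exact ⟨isTorsF_Γt M, (qcoh_iff hX).2 ⟨hR.of_mono (γ M), lGen_Γt hX hR hL⟩⟩

theorem isQCT_iff : _root_.FTors.IsQCT 𝔛 hX.1 M ↔ _root_.FTors.IsTorsF 𝔛 hX.1 M ∧ QR M ∧ LGen M :=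
  and_congr_right fun _ => qcoh_iff hX

end Groth.L28.QCT
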