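import Groth.Agent.L28.FTors.Basic

/-!
# Torsion sections over affine and compact opens of formal schemes
-/

set_option autoImplicit false
set_option linter.style.haveILetI false
set_option linter.unusedSectionVars false
set_option backward.isDefEq.respectTransparency false
set_option backward.isDefEq.respectTransparency.types false

universe u

open CategoryTheory CategoryTheory.Limits AlgebraicGeometry TopologicalSpace Opposite

noncomputable section

namespace Groth.L28.QCT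

open Groth.L17.FSheaf Groth.L09.IndCoh

variable {𝔛 : FSch.Sys.{u}} {h : 𝔛.IsFormal} (M : FSch.ModF 𝔛 h)

/-- A section annihilated by an open ideal. -/
abbrev Killed (k : ℕ) {V : (𝔛.X 0).Opens} (s : SF 𝔛 h M V) : Prop :=
  _root_.FTors.KilledBy (_root_.FTors.openIdealFam 𝔛 h) M k s

/-- A torsion section. -/
abbrev Tors {V : (𝔛.X 0).Opens} (s : SF 𝔛 h M V) : Prop :=
  _root_.FTors.IsTorsSect (_root_.FTors.openIdealFam 𝔛 h) M s

variable {M}

theorem smul_eq_zero_of_killed {k : ℕ} {V W : (𝔛.X 0).Opens} {s : SF 𝔛 h M V} (hs : Killed M k s) (e : W ≤ V)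
    {a : O 𝔛 h W} (ha : pR 𝔛 h k W a = 0) : a • rsF M e s = 0 :=
  hs (homOfLE e) a ha

theorem killed_of {k : ℕ} {V : (𝔛.X 0).Opens} {s : SF 𝔛 h M V}
    (H : ∀ (W : (𝔛.X 0).Opens) (e : W ≤ V) (a : O 𝔛 h W), pR 𝔛 h k W a = 0 → a • rsF M e s = 0) : Killed M k s :=
  fun W g a ha => H W (leOfHom g) a ha

theorem Killed.rs {k : ℕ} {V W : (𝔛.X 0).Opens} {s : SF 𝔛 h M V} (hs : Killed M k s) (e : W ≤ V) :
    Killed M k (rsF M e s) := _root_.FTors.KilledBy.res (homOfLE e) hs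

theorem Killed.ap {N : FSch.ModF 𝔛 h} (f : M ⟶ N) {k : ℕ} {V : (𝔛.X 0).Opens} {s : SF 𝔛 h M V}
    (hs : Killed M k s) : Killed N k (apF f V s) := _root_.FTors.KilledBy.hom f hs

theorem killed_sum {ι : Type*} (t : Finset ι) {k : ℕ} {V : (𝔛.X 0).Opens} (c : ι → O 𝔛 h V) (s : ι → SF 𝔛 h M V)
    (hs : ∀ i ∈ t, Killed M k (s i)) : Killed M k (∑ i ∈ t, c i • s i) :=
  Finset.sum_induction _ (fun z => Killed M k z) (fun _ _ => _root_.FTors.KilledBy.add)
    (_root_.FTors.KilledBy.zero _ _ k V) fun i hi => _root_.FTors.KilledBy.smul _ (hs i hi)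

theorem killed_local {k : ℕ} {V : (𝔛.X 0).Opens} {s : SF 𝔛 h M V}
    (H : ∀ x ∈ V, ∃ (W : (𝔛.X 0).Opens) (e : W ≤ V), x ∈ W ∧ Killed M k (rsF M e s)) : Killed M k s := by
  refine killed_of fun W e a ha => eq_of_locally M _ _ fun x hx => ?_
  obtain ⟨W', e', hxW', hk⟩ := H x (e hx)
  refine ⟨W ⊓ W', inf_le_left, ⟨hx, hxW'⟩, ?_⟩
  have h0 : pR 𝔛 h k (W ⊓ W') (resO 𝔛 h inf_le_left a) = 0 := by rw [pR_resO, ha]; exact map_zero _
  refine Eq.trans ?_ ((smul_eq_zero_of_killed hk inf_le_right h0).trans (res_zero M _).symm)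
  rw [rsF_rsF]
  exact (res_smul M (inf_le_left : W ⊓ W' ≤ W) a (rsF M e s)).trans
    (congrArg (fun t => resO 𝔛 h inf_le_left a • t) (rsF_rsF M e inf_le_left s))

theorem Killed.of_mono {N : FSch.ModF 𝔛 h} (f : M ⟶ N) [Mono f] {k : ℕ} {V : (𝔛.X 0).Opens} {s : SF 𝔛 h M V}
    (hs : Killed N k (apF f V s)) : Killed M k s := killed_of fun W e a ha => by
  refine (injective_iff_map_eq_zero _).1 (injective_apF f W) _ ?_
  rw [map_smul, apF_rsF]
  exact smul_eq_zero_of_killed hs e ha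

theorem tors_iff {V : (𝔛.X 0).Opens} {s : SF 𝔛 h M V} :
    Tors M s ↔ ∀ x ∈ V, ∃ (W : (𝔛.X 0).Opens) (e : W ≤ V), x ∈ W ∧ ∃ k, Killed M k (rsF M e s) := by
  refine ⟨fun H x hx => ?_, fun H => ?_⟩
  · obtain ⟨W, g, hg, hxW⟩ := H x hx
    exact ⟨W, leOfHom g, hxW, hg⟩
  · intro x hx
    obtain ⟨W, e, hxW, hk⟩ := H x hx
    exact ⟨W, homOfLE e, hk, hxW⟩

theorem Tors.of_mono {N : FSch.ModF 𝔛 h} (f : M ⟶ N) [Mono f] {V : (𝔛.X 0).Opens} {s : SF 𝔛 h M V}
    (hs : Tors N (apF f V s)) : Tors M s := tors_iff.2 fun x hx => by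
  obtain ⟨W, e, hxW, k, hk⟩ := tors_iff.1 hs x hx
  exact ⟨W, e, hxW, k, Killed.of_mono f (by rwa [apF_rsF])⟩

/-- A torsion section over a compact open is annihilated by one open ideal. -/
theorem Tors.exists_killed {V : (𝔛.X 0).Opens} (hV : IsCompact (V : Set (𝔛.X 0))) {s : SF 𝔛 h M V}
    (hs : Tors M s) : ∃ k, Killed M k s := by
  choose W e hxW k hk using tors_iff.1 hs
  obtain ⟨t, ht⟩ := hV.elim_finite_subcover (fun x : V => (W x.1 x.2 : Set (𝔛.X 0))) (fun x => (W _ _).2)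
    fun x hx => Set.mem_iUnion.2 ⟨⟨x, hx⟩, hxW x hx⟩
  refine ⟨t.sup fun x => k x.1 x.2, killed_local fun x hx => ?_⟩
  obtain ⟨y, hy, hxy⟩ := Set.mem_iUnion₂.1 (ht hx)
  exact ⟨W y.1 y.2, e _ _, hxy, _root_.FTors.KilledBy.mono (Finset.le_sup (f := fun x : V => k x.1 x.2) hy) (hk _ _)⟩

theorem exists_killed_family {ι : Type*} [Finite ι] {V : (𝔛.X 0).Opens} (hV : IsCompact (V : Set (𝔛.X 0)))
    (s : ι → SF 𝔛 h M V) (hs : ∀ i, Tors M (s i)) : ∃ k, ∀ i, Killed M k (s i) := by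
  haveI := Fintype.ofFinite ι
  choose k hk using fun i => (hs i).exists_killed hV
  exact ⟨Finset.univ.sup k, fun i => _root_.FTors.KilledBy.mono (Finset.le_sup (Finset.mem_univ i)) (hk i)⟩

theorem eq_zero_of_unit {V : (𝔛.X 0).Opens} {a : O 𝔛 h V} (ha : IsUnit a) {x y : SF 𝔛 h M V}
    (hxy : a • x = a • y) : x = y := ha.smul_left_cancel.1 hxy

section Noeth

variable (hX : 𝔛.IsLocNoethFormal) {M : FSch.ModF 𝔛 hX.1}

/-- Over an affine open, an open ideal is annihilated as soon as its sections annihilate. -/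
theorem killed_of_affine {k : ℕ} {V : (𝔛.X 0).Opens} (hV : IsAffineOpen V) {s : SF 𝔛 hX.1 M V}
    (H : ∀ a ∈ J 𝔛 hX.1 V ^ (k + 1), a • s = 0) : Killed M k s := by
  refine killed_of fun W e a ha => eq_of_locally M _ _ fun x hx => ?_
  obtain ⟨W', hW', hxW', hle⟩ := Opens.isBasis_iff_nbhd.1 (𝔛.X 0).isBasis_affineOpens hx
  refine ⟨W', hle, hxW', ?_⟩
  have h0 : resO 𝔛 hX.1 hle a ∈ (J 𝔛 hX.1 V ^ (k + 1)).map (resO 𝔛 hX.1 (hle.trans e)) := by
    rw [Ideal.map_pow, ← J_eq_map 𝔛 hX hV hW' (hle.trans e), ← (O_spec 𝔛 hX hW').2.2 k, RingHom.mem_ker,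
      pR_resO, ha]
    exact map_zero _
  refine Eq.trans ?_ (res_zero M hle).symm
  refine (res_smul M hle a (rsF M e s)).trans ?_
  show resO 𝔛 hX.1 hle a • rsF M hle (rsF M e s) = 0
  rw [rsF_rsF]
  generalize resO 𝔛 hX.1 hle a = b at h0
  induction h0 using Submodule.span_induction with
  | mem b hb =>
    obtain ⟨c, hc, rfl⟩ := hb
    exact (res_smul M (hle.trans e) c s).symm.trans ((congrArg (rsF M (hle.trans e)) (H c hc)).trans (res_zero M _))
  | zero => exact zero_smul _ _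
  | add b c _ _ hb hc => rw [add_smul, hb, hc, add_zero]
  | smul r b _ hb => rw [smul_eq_mul, mul_smul, hb, smul_zero]

theorem smul_eq_zero_of_mem {k : ℕ} {V : (𝔛.X 0).Opens} (hV : IsAffineOpen V) {s : SF 𝔛 hX.1 M V}
    (hs : Killed M k s) {a : O 𝔛 hX.1 V} (ha : a ∈ J 𝔛 hX.1 V ^ (k + 1)) : a • s = 0 := by
  have h1 := smul_eq_zero_of_killed hs le_rfl (a := a) (by rwa [← RingHom.mem_ker, (O_spec 𝔛 hX hV).2.2 k])
  rwa [show rsF M le_rfl s = s from res_self M _ s] at h1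

/-- The open ideals are finitely generated on affine opens. -/
theorem exists_J_gens {U : (𝔛.X 0).Opens} (hU : IsAffineOpen U) (k : ℕ) :
    ∃ (p : ℕ) (j : Fin p → O 𝔛 hX.1 U), (∀ l, j l ∈ J 𝔛 hX.1 U ^ (k + 1)) ∧
      ∀ s : SF 𝔛 hX.1 M U, (∀ l, j l • s = 0) → Killed M k s := by
  haveI := (O_spec 𝔛 hX hU).1
  obtain ⟨p, j, hj⟩ := Submodule.fg_iff_exists_fin_generating_family.1
    (IsNoetherian.noetherian (J 𝔛 hX.1 U ^ (k + 1)))
  refine ⟨p, j, fun l => hj ▸ Submodule.subset_span ⟨l, rfl⟩, fun s hs => killed_of_affine hX hU fun a ha => ?_⟩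
  obtain ⟨c, rfl⟩ := (Submodule.mem_span_range_iff_exists_fun _).1 (hj ▸ ha)
  rw [Finset.sum_smul]
  exact Finset.sum_eq_zero fun l _ => by rw [smul_eq_mul, mul_smul, hs, smul_zero]

end Noeth

end Groth.L28.QCT
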