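import Groth.Agent.L28.FTors.Cov

/-!
# Quasi-coherent torsion modules: extensions, colimits, the coreflection
-/

set_option autoImplicit false
set_option linter.style.haveILetI false
set_option linter.unusedSectionVars false
set_option backward.isDefEq.respectTransparency false
set_option backward.isDefEq.respectTransparency.types false

universe u

open CategoryTheory CategoryTheory.Limits AlgebraicGeometry TopologicalSpace Opposite

noncomputable section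

namespace Groth.L28.QCT

open Groth.L17.FSheaf Groth.L09.IndCoh

variable {𝔛 : FSch.Sys.{u}} (hX : 𝔛.IsLocNoethFormal) {M : FSch.ModF 𝔛 hX.1}

/-- Quasi-coherent torsion modules are covered with generated relations. -/
theorem good_of_isQCT (h : _root_.FTors.IsQCT 𝔛 hX.1 M) : Good hX M := by
  obtain ⟨hT, hR, hL⟩ := (isQCT_iff hX).1 h
  exact ⟨hR, cov_of_tors hX hR hL hT⟩

theorem isQCT_of_good (hT : _root_.FTors.IsTorsF 𝔛 hX.1 M) (h : Good hX M) : _root_.FTors.IsQCT 𝔛 hX.1 M :=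
  (isQCT_iff hX).2 ⟨hT, h.1, lGen_cov hX h.2⟩

theorem isTorsF_of_mono {N : FSch.ModF 𝔛 hX.1} (f : M ⟶ N) [Mono f] (hN : _root_.FTors.IsTorsF 𝔛 hX.1 N) :
    _root_.FTors.IsTorsF 𝔛 hX.1 M := fun U s => Tors.of_mono f (hN U (apF f U s))

theorem isTorsF_of_epi {N : FSch.ModF 𝔛 hX.1} (f : M ⟶ N) [Epi f] (hM : _root_.FTors.IsTorsF 𝔛 hX.1 M) :
    _root_.FTors.IsTorsF 𝔛 hX.1 N := fun U s => by
  refine (tors_iff (M := N)).2 fun x hx => ?_
  obtain ⟨V, hV, hxV, a, ha⟩ := Groth.L17.FSheaf.exists_lift f s x hx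
  obtain ⟨W, e, hxW, k, hk⟩ := (tors_iff (M := M)).1 (hM V a) x hxV
  refine ⟨W, e.trans hV, hxW, k, ?_⟩
  have h1 := hk.ap f
  rw [apF_rsF, show apF f V a = rsF N hV s from ha, rsF_rsF] at h1
  exact h1

theorem isTorsF_mid {A B C : FSch.ModF 𝔛 hX.1} (i : A ⟶ B) (p : B ⟶ C)
    (hex : ∀ (U : (𝔛.X 0).Opens) (b : SF 𝔛 hX.1 B U), apF p U b = 0 → ∃ a, apF i U a = b)
    (hA : _root_.FTors.IsTorsF 𝔛 hX.1 A) (hC : _root_.FTors.IsTorsF 𝔛 hX.1 C) :
    _root_.FTors.IsTorsF 𝔛 hX.1 B := fun W s => by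
  refine (tors_iff (M := B)).2 fun x hx => ?_
  obtain ⟨W₁, e₁, hxW₁, n, hn⟩ := (tors_iff (M := C)).1 (hC W (apF p W s)) x hx
  obtain ⟨U, hU, hxU, hle⟩ := Opens.isBasis_iff_nbhd.1 (𝔛.X 0).isBasis_affineOpens hxW₁
  refine ⟨U, hle.trans e₁, hxU, ?_⟩
  haveI := (O_spec 𝔛 hX hU).1
  obtain ⟨q, j, hj⟩ := Submodule.fg_iff_exists_fin_generating_family.1
    (IsNoetherian.noetherian (J 𝔛 hX.1 U ^ (n + 1)))
  let t := rsF B (hle.trans e₁) s
  have hn' : Killed C n (apF p U t) := by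
    have h1 := hn.rs hle
    rw [rsF_rsF, ← apF_rsF] at h1
    exact h1
  choose a ha using fun l => hex U (j l • t) (by
    rw [map_smul]
    exact smul_eq_zero_of_mem hX hU hn' (hj ▸ Submodule.subset_span ⟨l, rfl⟩))
  obtain ⟨m, hm⟩ := exists_killed_family hU.isCompact a fun l => hA U (a l)
  refine ⟨n + 1 + m, killed_of_affine hX hU fun b hb => ?_⟩
  rw [show n + 1 + m + 1 = (n + 1) + (m + 1) by omega, pow_add] at hb
  refine Submodule.mul_induction_on hb (fun b₁ hb₁ b₂ hb₂ => ?_) fun b₁ b₂ h₁ h₂ => by rw [add_smul, h₁, h₂, add_zero]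
  obtain ⟨c, rfl⟩ := (Submodule.mem_span_range_iff_exists_fun _).1 (hj ▸ hb₁)
  rw [mul_comm, mul_smul, Finset.sum_smul, Finset.smul_sum]
  refine Finset.sum_eq_zero fun l _ => ?_
  rw [smul_eq_mul, mul_smul, ← ha l, ← map_smul, ← map_smul, smul_comm,
    smul_eq_zero_of_mem hX hU (hm l) hb₂, smul_zero, map_zero]

theorem isQCT_five (S : ComposableArrows (FSch.ModF 𝔛 hX.1) 4) (hS : S.Exact)
    (h₀ : _root_.FTors.IsQCT 𝔛 hX.1 (S.obj' 0)) (h₁ : _root_.FTors.IsQCT 𝔛 hX.1 (S.obj' 1))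
    (h₃ : _root_.FTors.IsQCT 𝔛 hX.1 (S.obj' 3)) (h₄ : _root_.FTors.IsQCT 𝔛 hX.1 (S.obj' 4)) :
    _root_.FTors.IsQCT 𝔛 hX.1 (S.obj' 2) := by
  obtain ⟨-, hR₀, hL₀⟩ := (isQCT_iff hX).1 h₀
  obtain ⟨hT₁, hR₁, hL₁⟩ := (isQCT_iff hX).1 h₁
  obtain ⟨hT₃, hR₃, hL₃⟩ := (isQCT_iff hX).1 h₃
  obtain ⟨-, hR₄, hL₄⟩ := (isQCT_iff hX).1 h₄
  obtain ⟨i, p, hi, hp, hw, hex⟩ := exists_ext hX S hS
  exact ⟨isTorsF_mid hX i p hex (isTorsF_of_epi hX (cokernel.π _) hT₁) (isTorsF_of_mono hX (kernel.ι _) hT₃),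
    qcoh_five hX S hS hL₀ ⟨hR₁, hL₁⟩ ⟨hR₃, hL₃⟩ hR₄⟩

theorem isTorsF_colim {J : Type u} [SmallCategory J] {F : J ⥤ FSch.ModF 𝔛 hX.1} {c : Cocone F} (hc : IsColimit c)
    (hF : ∀ j, _root_.FTors.IsTorsF 𝔛 hX.1 (F.obj j)) : _root_.FTors.IsTorsF 𝔛 hX.1 c.pt := by
  have hh : ∀ j, ∃ g : F.obj j ⟶ Γt c.pt, g ≫ γ c.pt = c.ι.app j := fun j => exists_lift_Γt (hF j) (c.ι.app j)
  choose g hg using hh
  let d : Cocone F :=
    { pt := Γt c.pt
      ι := { app := g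
             naturality := fun j k a => by
              dsimp
              rw [Category.comp_id, ← cancel_mono (γ c.pt), Category.assoc, hg, hg, c.w] } }
  have h : hc.desc d ≫ γ c.pt = 𝟙 c.pt := hc.hom_ext fun j => by rw [hc.fac_assoc, Category.comp_id]; exact hg j
  intro U s
  have h1 : apF (γ c.pt) U (apF (hc.desc d) U s) = s :=
    apF_congr hX (f := hc.desc d ≫ γ c.pt) h U s
  rw [← h1]
  exact tors_γ _

theorem isQCT_colim {J : Type u} [SmallCategory J] {F : J ⥤ FSch.ModF 𝔛 hX.1} {c : Cocone F} (hc : IsColimit c)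
    (hF : ∀ j, _root_.FTors.IsQCT 𝔛 hX.1 (F.obj j)) : _root_.FTors.IsQCT 𝔛 hX.1 c.pt :=
  isQCT_of_good hX (isTorsF_colim hX hc fun j => (hF j).1) (good_colim hX hc fun j => good_of_isQCT hX (hF j))

theorem isLeftAdjoint_qctι : (_root_.FTors.IsQCT 𝔛 hX.1).ι.IsLeftAdjoint := by
  haveI : ∀ N, HasTerminal (CostructuredArrow (_root_.FTors.IsQCT 𝔛 hX.1).ι N) := fun N => by
    obtain ⟨R, r, hR, hterm⟩ := exists_terminal hX N
    have hRt : _root_.FTors.IsQCT 𝔛 hX.1 (Γt R) := by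
      haveI : SheafOfModules.IsQuasicoherent.{u} R := (qcoh_iff hX).2 ⟨hR.1, lGen_cov hX hR.2⟩
      exact isQCT_Γt hX
    have key : ∀ (G : FSch.ModF 𝔛 hX.1), _root_.FTors.IsQCT 𝔛 hX.1 G → ∀ g : G ⟶ N,
        ∃! a : G ⟶ Γt R, a ≫ γ R ≫ r = g := fun G hG g => by
      obtain ⟨a, ha, hu⟩ := hterm G (good_of_isQCT hX hG) g
      obtain ⟨b, hb⟩ := exists_lift_Γt hG.1 a
      refine ⟨b, by simp only [← Category.assoc, hb, ha], fun b' hb' => ?_⟩
      rw [← cancel_mono (γ R), hb]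
      exact hu _ ((Category.assoc _ _ _).trans hb')
    refine IsTerminal.hasTerminal (X := CostructuredArrow.mk
      (Y := (⟨Γt R, hRt⟩ : (_root_.FTors.IsQCT 𝔛 hX.1).FullSubcategory))
      (show (_root_.FTors.IsQCT 𝔛 hX.1).ι.obj ⟨Γt R, hRt⟩ ⟶ N from γ R ≫ r)) ?_
    refine IsTerminal.ofUniqueHom
      (fun A => CostructuredArrow.homMk ⟨(key A.left.1 A.left.2 A.hom).exists.choose⟩
        (key A.left.1 A.left.2 A.hom).exists.choose_spec) fun A m => ?_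
    refine CostructuredArrow.hom_ext _ _ (ObjectProperty.hom_ext _ ?_)
    exact (key A.left.1 A.left.2 A.hom).unique (CostructuredArrow.w m)
      (key A.left.1 A.left.2 A.hom).exists.choose_spec
  exact isLeftAdjoint_of_costructuredArrowTerminals _

end Groth.L28.QCT
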