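import Groth.Agent.L28.FTors.Push
import Groth.Agent.L20.ModStalk

/-!
# Direct images of coherent torsion modules along pseudo-proper morphisms
-/

set_option autoImplicit false
set_option linter.style.haveILetI false
set_option linter.unusedSectionVars false
set_option backward.isDefEq.respectTransparency false
set_option backward.isDefEq.respectTransparency.types false

universe u

open CategoryTheory CategoryTheory.Limits AlgebraicGeometry TopologicalSpace Opposite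

noncomputable section

namespace Groth.L28.QCT

open Groth.L17.FSheaf Groth.L09.IndCoh
open Groth.L18.Frame (rs ro rs_rs rs_self rs_smul ro_ro)

section JSub

variable {𝔛 : FSch.Sys.{u}} (hX : 𝔛.IsLocNoethFormal) {M : FSch.ModF 𝔛 hX.1} (hM : FSch.IsCohF 𝔛 hX.1 M)

/-- A module all of whose sections are annihilated by one open ideal. -/
def KilledAll (M : FSch.ModF 𝔛 hX.1) (k : ℕ) : Prop :=
  ∀ (U : (𝔛.X 0).Opens) (s : SF 𝔛 hX.1 M U), Killed M k s

include hM in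
theorem exists_prod_gens {U : (𝔛.X 0).Opens} (hU : IsAffineOpen U) :
    ∃ (n : ℕ) (w : Fin n → SF 𝔛 hX.1 M U),
      (∀ i, ∃ a ∈ J 𝔛 hX.1 U, ∃ z : SF 𝔛 hX.1 M U, w i = a • z) ∧
      ∀ ⦃V : (𝔛.X 0).Opens⦄, IsAffineOpen V → ∀ (hV : V ≤ U) (a : O 𝔛 hX.1 V), a ∈ J 𝔛 hX.1 V →
        ∀ z : SF 𝔛 hX.1 M V, a • z ∈ Submodule.span (O 𝔛 hX.1 V) (Set.range fun i => rsF M hV (w i)) := by
  haveI := (O_spec 𝔛 hX hU).1
  obtain ⟨n, g, hg⟩ := exists_gens hX hM hU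
  obtain ⟨p, j, hj⟩ := Submodule.fg_iff_exists_fin_generating_family.1 (IsNoetherian.noetherian (J 𝔛 hX.1 U))
  refine ⟨p * n, fun i => j (finProdFinEquiv.symm i).1 • g (finProdFinEquiv.symm i).2, fun i =>
    ⟨_, hj ▸ Submodule.subset_span ⟨_, rfl⟩, _, rfl⟩, fun V hV hVU a ha z => ?_⟩
  obtain ⟨c, rfl⟩ := hg hV hVU z
  rw [J_eq_map 𝔛 hX hU hV hVU] at ha
  have ha' : a ∈ Submodule.span (O 𝔛 hX.1 V) (Set.range fun l => resO 𝔛 hX.1 hVU (j l)) := by
    rw [← hj] at ha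
    change a ∈ Ideal.map (resO 𝔛 hX.1 hVU) (Ideal.span (Set.range j)) at ha
    rw [Ideal.map_span, ← Set.range_comp] at ha
    exact ha
  obtain ⟨d, rfl⟩ := (Submodule.mem_span_range_iff_exists_fun _).1 ha'
  rw [Finset.sum_smul]
  refine Submodule.sum_mem _ fun l _ => ?_
  rw [Finset.smul_sum]
  refine Submodule.sum_mem _ fun q _ => ?_
  rw [smul_eq_mul, mul_smul, smul_comm (resO 𝔛 hX.1 hVU (j l)) (c q)]
  refine Submodule.smul_mem _ _ (Submodule.smul_mem _ _ ?_)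
  refine Submodule.subset_span ⟨finProdFinEquiv (l, q), ?_⟩
  simp only [Equiv.symm_apply_apply]
  exact rsF_smul hX _ _ _

include hM in
/-- The product of the ideal of definition and a coherent module. -/
theorem exists_J_sub {k : ℕ} (hk : KilledAll hX M (k + 1)) :
    ∃ (K : FSch.ModF 𝔛 hX.1) (ι : K ⟶ M) (_ : Mono ι), FSch.IsCohF 𝔛 hX.1 K ∧ KilledAll hX K k ∧
      FSch.IsCohF 𝔛 hX.1 (cokernel ι) ∧ KilledAll hX (cokernel ι) 0 ∧
      ∀ (W : (𝔛.X 0).Opens) (x : SF 𝔛 hX.1 M W), apF (cokernel.π ι) W x = 0 → ∃ t, apF ι W t = x := by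
  let κ := {U : (𝔛.X 0).Opens // IsAffineOpen U}
  choose n w hw hspan using fun U : κ => exists_prod_gens hX hM U.2
  have hcov : ∀ x, ∃ U : κ, x ∈ U.1 := fun x => by
    obtain ⟨U, hU, hxU, -⟩ := Opens.isBasis_iff_nbhd.1 (𝔛.X 0).isBasis_affineOpens (Opens.mem_top x)
    exact ⟨⟨U, hU⟩, hxU⟩
  have hmem : ∀ {W : (𝔛.X 0).Opens}, IsAffineOpen W → ∀ (a : O 𝔛 hX.1 W), a ∈ J 𝔛 hX.1 W →
      ∀ z : SF 𝔛 hX.1 M W, a • z ∈ locSpan hX M (fun U : κ => U.1) w W := by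
    intro W hW a ha z U x hx hxU
    obtain ⟨V, hV, hxV, hle⟩ := Opens.isBasis_iff_nbhd.1 (𝔛.X 0).isBasis_affineOpens
      (show x ∈ W ⊓ U.1 from ⟨hx, hxU⟩)
    refine ⟨V, hle.trans inf_le_left, hle.trans inf_le_right, hxV, ?_⟩
    rw [rsF_smul hX]
    refine hspan U hV _ _ ?_ _
    rw [J_eq_map 𝔛 hX hW hV (hle.trans inf_le_left)]
    exact Ideal.mem_map_of_mem _ ha
  have hcomp : ∀ (U : κ) (i : Fin (n U)), w U i ∈ locSpan hX M (fun U : κ => U.1) w U.1 := fun U i => by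
    obtain ⟨a, ha, z, hz⟩ := hw U i
    rw [hz]
    exact hmem U.2 a ha z
  let ι := spanι hX M (fun U : κ => U.1) w
  have hK := isCohF_spanMod hX M (fun U : κ => U.1) w hcov (qr_coh hX hM) hcomp
  have hwk : ∀ (U : κ) (i : Fin (n U)), Killed M k (w U i) := fun U i => by
    obtain ⟨a, ha, z, hz⟩ := hw U i
    refine killed_of_affine hX U.2 fun b hb => ?_
    rw [hz, ← mul_smul]
    refine smul_eq_zero_of_mem hX U.2 (hk _ z) ?_
    rw [pow_succ _ (k + 1)]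
    exact Ideal.mul_mem_mul hb ha
  refine ⟨_, ι, inferInstance, hK, fun W t => Killed.of_mono ι (killed_local fun x hx => ?_),
    isCohF_cokernel 𝔛 hX hK hM ι, fun W q => killed_local fun x hx => ?_, fun W x hx => ?_⟩
  · obtain ⟨U, hxU⟩ := hcov x
    obtain ⟨V, hV, hVU, hxV, hm⟩ := span_mem hX M (fun U : κ => U.1) w t U x hx hxU
    refine ⟨V, hV, hxV, ?_⟩
    obtain ⟨c, hc⟩ := (Submodule.mem_span_range_iff_exists_fun _).1 hm
    rw [← hc]
    exact killed_sum Finset.univ c _ fun i _ => (hwk U i).rs hVU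
  · obtain ⟨V, hV, hxV, z, hz⟩ := Groth.L17.FSheaf.exists_lift (cokernel.π ι) q x hx
    obtain ⟨U, hU, hxU, hle⟩ := Opens.isBasis_iff_nbhd.1 (𝔛.X 0).isBasis_affineOpens hxV
    refine ⟨U, hle.trans hV, hxU, killed_of_affine hX hU fun a ha => ?_⟩
    rw [zero_add, pow_one] at ha
    obtain ⟨t, ht⟩ := exists_span_sect hX M (fun U : κ => U.1) w (hmem hU a ha (rsF M hle z))
    have h1 : apF (cokernel.π ι) U (a • rsF M hle z) = 0 := by
      rw [← ht]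
      exact hom_comp_zero (cokernel.condition ι) _ t
    rw [map_smul, apF_rsF, show apF (cokernel.π ι) V z = rsF _ hV q from hz, rsF_rsF] at h1
    exact h1
  · refine exists_span_sect hX M (fun U : κ => U.1) w fun U p hp hpU => ?_
    obtain ⟨V, hV, hpV, t, ht⟩ := exists_preimage_of_coker ι x hx p hp
    obtain ⟨V', hV', hV'U, hpV', hm⟩ := span_mem hX M (fun U : κ => U.1) w t U p hpV hpU
    refine ⟨V', hV'.trans hV, hV'U, hpV', ?_⟩
    rw [← rsF_rsF M hV hV']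
    have ht' : apF ι V t = rsF M hV x := ht
    rwa [← ht']

end JSub

variable {𝔛 𝔜 : FSch.Sys.{u}} (f : 𝔛 ⟶ 𝔜) (hX : 𝔛.IsLocNoethFormal) (hY : 𝔜.IsLocNoethFormal)

theorem finite_push_zero [AlgebraicGeometry.IsProper ((f : FSch.Hom 𝔛 𝔜).app 0)] {M : FSch.ModF 𝔛 hX.1}
    (hM : FSch.IsCohF 𝔛 hX.1 M) (hk : KilledAll hX M 0) {V : (𝔜.X 0).Opens} (hV : IsAffineOpen V) :
    Module.Finite (O 𝔜 hY.1 V) (SF 𝔜 hY.1 ((FSch.pushF f hX.1 hY.1).obj M) V) := by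
  haveI := hY.2.2 0
  haveI := (O_spec 𝔜 hY hV).1
  let f₀ := (f : FSch.Hom 𝔛 𝔜).app 0
  let G := LF 𝔛 hX.1 M 0
  let P := (Scheme.Modules.pushforward f₀).obj G
  let VY := 𝔜.lvU hY.1 0 V
  haveI hfin := Groth.L20.ModStalk.finite_sections P
    (Groth.L16.Exist.isCoh_pushforward f₀ (isCoh_canonSys 𝔛 hX M hM 0)) (isAffineOpen_lvU 𝔜 hY.1 hV 0)
  letI : Module (O 𝔜 hY.1 V) Γ(P, VY) := Module.compHom _ (pR 𝔜 hY.1 0 V)
  haveI : Module.Finite (O 𝔜 hY.1 V) Γ(P, VY) := by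
    obtain ⟨n, g, hg⟩ := Module.Finite.exists_fin (R := Γ(𝔜.X 0, VY)) (M := Γ(P, VY))
    refine ⟨Submodule.fg_def.2 ⟨Set.range g, Set.finite_range _, eq_top_iff.2 fun x _ => ?_⟩⟩
    obtain ⟨c, hc⟩ := (Submodule.mem_span_range_iff_exists_fun _).1 (hg ▸ Submodule.mem_top : x ∈ _)
    choose b hb using fun i => pR_surjective 𝔜 hY.1 hV 0 (c i)
    refine (Submodule.mem_span_range_iff_exists_fun _).2 ⟨b, Eq.trans (Finset.sum_congr rfl fun i _ => ?_) hc⟩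
    show pR 𝔜 hY.1 0 V (b i) • g i = _
    rw [hb]
  have e : f₀ ⁻¹ᵁ VY ≤ 𝔛.lvU hX.1 0 (fU f V) := (FSch.Hom.lvU_preimage f hX.1 hY.1 0 V).le
  have e' : 𝔛.lvU hX.1 0 (fU f V) ≤ f₀ ⁻¹ᵁ VY := (FSch.Hom.lvU_preimage f hX.1 hY.1 0 V).ge
  let Φ : SF 𝔜 hY.1 ((FSch.pushF f hX.1 hY.1).obj M) V →ₗ[O 𝔜 hY.1 V] Γ(P, VY) :=
    { toFun := fun x => (rs G e (ηF 𝔛 hX.1 M 0 (fU f V) (toM f hX hY x)) : Γ(G, f₀ ⁻¹ᵁ VY))
      map_add' := fun x y => by
        show rs G e (ηF 𝔛 hX.1 M 0 (fU f V) (toM f hX hY x + toM f hX hY y)) = _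
        rw [show ηF 𝔛 hX.1 M 0 (fU f V) (toM f hX hY x + toM f hX hY y) = _ from map_add _ _ _]
        exact map_add (G.presheaf.map (homOfLE e).op).hom _ _
      map_smul' := fun a x => by
        show rs G e (ηF 𝔛 hX.1 M 0 (fU f V) (toM f hX hY (a • x))) = f₀.app VY (pR 𝔜 hY.1 0 V a) • rs G e _
        rw [toM_smul, ηF_smul, rs_smul, pR_sh]
        refine congrArg (fun t => t • rs G e (ηF 𝔛 hX.1 M 0 (fU f V) (toM f hX hY x))) ?_
        show (f₀.appLE VY _ _ ≫ (𝔛.X 0).presheaf.map (homOfLE e).op) _ = f₀.app VY _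
        rw [Scheme.Hom.appLE_map, Scheme.Hom.app_eq_appLE] }
  have hinj : Function.Injective Φ := by
    refine (injective_iff_map_eq_zero Φ).2 fun x hx => ?_
    show toM f hX hY x = 0
    have h0 : ηF 𝔛 hX.1 M 0 (fU f V) (toM f hX hY x) = 0 := by
      have h1 := congrArg (rs G e') (show rs G e (ηF 𝔛 hX.1 M 0 (fU f V) (toM f hX hY x)) = 0 from hx)
      rw [rs_rs, rs_self] at h1
      exact h1.trans (map_zero (G.presheaf.map (homOfLE e').op).hom)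
    refine eq_of_locally M _ _ fun p hp => ?_
    obtain ⟨U, hU, hpU, hle⟩ := Opens.isBasis_iff_nbhd.1 (𝔛.X 0).isBasis_affineOpens hp
    refine ⟨U, hle, hpU, Eq.trans ?_ (res_zero M _).symm⟩
    have h1 : rsF M hle (toM f hX hY x) ∈ J 𝔛 hX.1 U ^ (0 + 1) • (⊤ : Submodule (O 𝔛 hX.1 U) (SF 𝔛 hX.1 M U)) := by
      rw [← ((SF_spec 𝔛 hX hM hU).2 0).2, ηF_res, h0]
      exact map_zero (G.presheaf.map (homOfLE _).op).hom
    exact (Submodule.mem_bot (O 𝔛 hX.1 U)).1 ((Submodule.smul_le.2 fun a ha z _ =>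
      (Submodule.mem_bot (O 𝔛 hX.1 U)).2 (smul_eq_zero_of_mem hX hU (hk U z) ha)) h1)
  exact Module.Finite.of_injective Φ hinj

theorem finite_push [AlgebraicGeometry.IsProper ((f : FSch.Hom 𝔛 𝔜).app 0)] {V : (𝔜.X 0).Opens}
    (hV : IsAffineOpen V) : ∀ (k : ℕ) (M : FSch.ModF 𝔛 hX.1), FSch.IsCohF 𝔛 hX.1 M → KilledAll hX M k →
      Module.Finite (O 𝔜 hY.1 V) (SF 𝔜 hY.1 ((FSch.pushF f hX.1 hY.1).obj M) V)
  | 0, _, hM, hk => finite_push_zero f hX hY hM hk hV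
  | k + 1, M, hM, hk => by
    haveI := (O_spec 𝔜 hY hV).1
    obtain ⟨K, ι, _, hK, hKk, hQ, hQk, hex⟩ := exists_J_sub hX hM hk
    haveI := finite_push hV k K hK hKk
    haveI := finite_push_zero f hX hY hQ hQk hV
    let g := apF ((FSch.pushF f hX.1 hY.1).map (cokernel.π ι)) V
    let i := apF ((FSch.pushF f hX.1 hY.1).map ι) V
    have h : LinearMap.range i = LinearMap.ker g := by
      refine le_antisymm ?_ fun x hx => ?_
      · rintro _ ⟨t, rfl⟩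
        exact hom_comp_zero (cokernel.condition ι) (op (fU f V)) (toM f hX hY t)
      · obtain ⟨t, ht⟩ := hex (fU f V) (toM f hX hY x) (LinearMap.mem_ker.1 hx)
        exact ⟨t, ht⟩
    haveI := isNoetherian_of_range_eq_ker i g h
    infer_instance

variable [CompactSpace (𝔛.X 0)]

/-- The direct image of a coherent torsion module along a pseudo-proper morphism is coherent. -/
theorem isCohF_push [AlgebraicGeometry.IsProper ((f : FSch.Hom 𝔛 𝔜).app 0)] {M : FSch.ModF 𝔛 hX.1}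
    (hM : FSch.IsCohF 𝔛 hX.1 M) (hT : _root_.FTors.IsTorsF 𝔛 hX.1 M) :
    FSch.IsCohF 𝔜 hY.1 ((FSch.pushF f hX.1 hY.1).obj M) := by
  obtain ⟨ι, _, U, hU, _, hcov⟩ := exists_affine_cover hX (⊤ : (𝔛.X 0).Opens)
  choose n g hg using fun i => exists_gens hX hM (hU i)
  choose k hk using fun i => exists_killed_family (M := M) (hU i).isCompact (g i) fun _ => hT _ _
  have hkill : KilledAll hX M (Finset.univ.sup k) := fun W s => killed_local fun x hx => by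
    obtain ⟨i, hxi⟩ := hcov x (Opens.mem_top x)
    obtain ⟨V, hV, hxV, hle⟩ := Opens.isBasis_iff_nbhd.1 (𝔛.X 0).isBasis_affineOpens (show x ∈ W ⊓ U i from ⟨hx, hxi⟩)
    obtain ⟨c, hc⟩ := hg i hV (hle.trans inf_le_right) (rsF M (hle.trans inf_le_left) s)
    refine ⟨V, hle.trans inf_le_left, hxV, ?_⟩
    rw [hc]
    exact killed_sum Finset.univ c _ fun q _ =>
      _root_.FTors.KilledBy.mono (Finset.le_sup (Finset.mem_univ i)) ((hk i q).rs _)
  have hR := qr_push f hX hY (qr_coh hX hM) (lGen_coh hX hM) hT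
  refine isCohF_of_qr_finGen hY hR fun y => ?_
  obtain ⟨V, hV, hyV, -⟩ := Opens.isBasis_iff_nbhd.1 (𝔜.X 0).isBasis_affineOpens (Opens.mem_top y)
  haveI := finite_push f hX hY hV _ M hM hkill
  obtain ⟨m, w, hw⟩ := Module.Finite.exists_fin (R := O 𝔜 hY.1 V) (M := SF 𝔜 hY.1 ((FSch.pushF f hX.1 hY.1).obj M) V)
  refine ⟨V, hyV, m, w, fun W hW p hp z => ?_⟩
  obtain ⟨V', hV', hpV', hmem⟩ := genOn_push f hX hY (qr_coh hX hM) (lGen_coh hX hM) hT hV hW z p hp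
  refine ⟨V', hV', hpV', ?_⟩
  have hle : Submodule.span (O 𝔜 hY.1 V') (Set.range fun t : SF 𝔜 hY.1 ((FSch.pushF f hX.1 hY.1).obj M) V =>
      rsF _ (hV'.trans hW) t) ≤ Submodule.span (O 𝔜 hY.1 V') (Set.range fun i => rsF _ (hV'.trans hW) (w i)) := by
    refine Submodule.span_le.2 ?_
    rintro _ ⟨t, rfl⟩
    obtain ⟨c, rfl⟩ := (Submodule.mem_span_range_iff_exists_fun _).1 (hw ▸ Submodule.mem_top : t ∈ _)
    show rsF _ _ _ ∈ Submodule.span _ _
    rw [rsF_sum hY]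
    exact Submodule.sum_mem _ fun i _ => by
      rw [rsF_smul hY]
      exact Submodule.smul_mem _ _ (Submodule.subset_span ⟨i, rfl⟩)
  obtain ⟨c, hc⟩ := (Submodule.mem_span_range_iff_exists_fun _).1 (hle hmem)
  exact ⟨c, hc.symm⟩

end Groth.L28.QCT
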