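import Groth.Agent.L28.FTors.Torsion

/-!
# Torsion modules with generated relations over affine opens
-/

set_option autoImplicit false
set_option linter.style.haveILetI false
set_option linter.unusedSectionVars false
set_option backward.isDefEq.respectTransparency false
set_option backward.isDefEq.respectTransparency.types false

universe u

open CategoryTheory CategoryTheory.Limits AlgebraicGeometry TopologicalSpace Opposite

noncomputable section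

namespace Groth.L28.QCT

open Groth.L17.FSheaf Groth.L09.IndCoh

theorem glue {Y : TopCat.{u}} {R : Sheaf (Opens.grothendieckTopology Y) RingCat.{u}} (M : SheafOfModules.{u} R)
    {U : Opens Y} {ι : Type u} (W : ι → Opens Y) (hW : ∀ i, W i ≤ U) (hcov : ∀ x ∈ U, ∃ i, x ∈ W i)
    (s : ∀ i, M.val.obj (op (W i)))
    (hs : ∀ i j, res M (inf_le_left : W i ⊓ W j ≤ W i) (s i) = res M (inf_le_right : W i ⊓ W j ≤ W j) (s j)) :
    ∃ t : M.val.obj (op U), ∀ i, res M (hW i) t = s i := by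
  let F : TopCat.Sheaf Ab.{u} Y := ⟨M.val.presheaf, M.isSheaf⟩
  let sf : ∀ i, ToType (F.1.obj (op (W i))) := s
  have hc : TopCat.Presheaf.IsCompatible F.1 W sf := hs
  exact (F.existsUnique_gluing' W U (fun i => homOfLE (hW i)) (fun x hx => Opens.mem_iSup.2 (hcov x hx)) sf hc).exists

variable {𝔛 : FSch.Sys.{u}}

theorem mem_Dop_pow {h : 𝔛.IsFormal} {U : (𝔛.X 0).Opens} {a : O 𝔛 h U} {x : 𝔛.X 0} (hx : x ∈ Dop h a) (n : ℕ) :
    x ∈ Dop h (a ^ n) := by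
  have hxU : x ∈ 𝔛.lvU h 0 U := (𝔛.X 0).basicOpen_le _ hx
  refine ((𝔛.X 0).mem_basicOpen _ x hxU).2 ?_
  rw [map_pow, map_pow]
  exact (((𝔛.X 0).mem_basicOpen _ x hxU).1 hx).pow n

variable (hX : 𝔛.IsLocNoethFormal) {M : FSch.ModF 𝔛 hX.1}

theorem rsF_pow_smul {U W : (𝔛.X 0).Opens} (e : W ≤ U) (a : O 𝔛 hX.1 U) (n : ℕ) (s : SF 𝔛 hX.1 M U) :
    rsF M e (a ^ n • s) = resO 𝔛 hX.1 e a ^ n • rsF M e s := by
  rw [rsF_smul hX, map_pow]

variable (hM : QR M)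
include hM

/-- A section which is a combination of given ones where `f` does not vanish is one up to a power of `f`. -/
theorem colon {V : (𝔛.X 0).Opens} (hV : IsAffineOpen V) (f : O 𝔛 hX.1 V) {m : ℕ} (g : Fin m → SF 𝔛 hX.1 M V)
    (u : SF 𝔛 hX.1 M V) {k : ℕ} (hu : Killed M k u)
    (H : ∀ x ∈ Dop hX.1 f, ∃ (W : (𝔛.X 0).Opens) (hW : W ≤ V), x ∈ W ∧
      rsF M hW u ∈ Submodule.span (O 𝔛 hX.1 W) (Set.range fun i => rsF M hW (g i))) :
    ∃ N, f ^ N • u ∈ Submodule.span (O 𝔛 hX.1 V) (Set.range g) := by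
  let A : Ideal (O 𝔛 hX.1 V) :=
    (Submodule.span (O 𝔛 hX.1 V) (Set.range g)).comap (LinearMap.toSpanSingleton (O 𝔛 hX.1 V) _ u)
  refine exists_pow_mem hX hV f (A := A) (k := k) (fun a ha => ?_) fun x hx => ?_
  · show a • u ∈ Submodule.span _ _
    rw [smul_eq_zero_of_mem hX hV hu ha]
    exact zero_mem _
  obtain ⟨W, hW, hxW, hmem⟩ := H x hx
  obtain ⟨c, hc⟩ := (Submodule.mem_span_range_iff_exists_fun _).1 hmem
  obtain ⟨V', hV', hxV', hrel⟩ := relGen_affine hX hM hV (Fin.cons u g) hW (Fin.cons 1 fun i => - c i) (by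
    rw [Fin.sum_univ_succ]
    simp only [Fin.cons_zero, Fin.cons_succ, neg_smul, Finset.sum_neg_distrib, one_smul]
    rw [hc, add_neg_cancel]) x hxW
  refine exists_mem_Dop hX (hV'.trans hW) A ?_ hxV'
  have hle : resRels M (hV'.trans hW) (Fin.cons u g) ≤
      Submodule.comap (LinearMap.proj (R := O 𝔛 hX.1 V') (φ := fun _ : Fin (m + 1) => O 𝔛 hX.1 V') 0)
        (A.map (resO 𝔛 hX.1 (hV'.trans hW))) := by
    refine Submodule.span_le.2 ?_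
    rintro _ ⟨r, hr, rfl⟩
    refine Ideal.mem_map_of_mem _ (show r 0 • u ∈ Submodule.span _ _ from ?_)
    have h0 := mem_Rels.1 hr
    rw [Fin.sum_univ_succ] at h0
    simp only [Fin.cons_zero, Fin.cons_succ] at h0
    rw [eq_neg_of_add_eq_zero_left h0]
    exact neg_mem (Submodule.sum_mem _ fun i _ => Submodule.smul_mem _ _ (Submodule.subset_span ⟨i, rfl⟩))
  simpa using hle hrel

/-- Sections vanishing where `f` does not are killed by a power of `f`. -/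
theorem exists_pow_smul_eq_zero {V : (𝔛.X 0).Opens} (hV : IsAffineOpen V) (f : O 𝔛 hX.1 V) (u : SF 𝔛 hX.1 M V)
    (hu : Tors M u) (H : rsF M (Dop_le hX.1 f) u = 0) : ∃ N, f ^ N • u = 0 := by
  obtain ⟨k, hk⟩ := hu.exists_killed hV.isCompact
  obtain ⟨N, hN⟩ := colon hX hM hV f (fun i : Fin 0 => i.elim0) u hk fun x hx =>
    ⟨Dop hX.1 f, Dop_le hX.1 f, hx, by rw [H]; exact zero_mem _⟩
  exact ⟨N, by simpa using hN⟩

/-- Sections where `f` does not vanish extend up to a power of `f`, given generators. -/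
theorem extend {V : (𝔛.X 0).Opens} (hV : IsAffineOpen V) (hg : GenOn M V) (hT : ∀ u : SF 𝔛 hX.1 M V, Tors M u)
    (f : O 𝔛 hX.1 V) (t : SF 𝔛 hX.1 M (Dop hX.1 f)) (ht : Tors M t) :
    ∃ (N : ℕ) (u : SF 𝔛 hX.1 M V), rsF M (Dop_le hX.1 f) u = resO 𝔛 hX.1 (Dop_le hX.1 f) f ^ N • t := by
  classical
  have hD := isAffineOpen_Dop hX.1 hV f
  obtain ⟨k, hk⟩ := ht.exists_killed hD.isCompact
  let I : Ideal (O 𝔛 hX.1 V) :=
    { carrier := {a | ∃ u, rsF M (Dop_le hX.1 f) u = resO 𝔛 hX.1 (Dop_le hX.1 f) a • t}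
      zero_mem' := ⟨0, by rw [map_zero, zero_smul]; exact res_zero M _⟩
      add_mem' := fun {a b} ⟨u, hu⟩ ⟨v, hv⟩ =>
        ⟨u + v, by rw [map_add, add_smul, ← hu, ← hv]; exact res_add M _ u v⟩
      smul_mem' := fun r a ⟨u, hu⟩ => ⟨r • u, by rw [smul_eq_mul, map_mul, mul_smul, ← hu, rsF_smul hX]⟩ }
  suffices ∃ N, f ^ N ∈ I by
    obtain ⟨N, u, hu⟩ := this
    exact ⟨N, u, by rw [hu, map_pow]⟩
  refine exists_pow_mem hX hV f (k := k) (fun a ha => ⟨0, ?_⟩) fun x hx => ?_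
  · refine (res_zero M _).trans (Eq.symm ?_)
    have h1 := smul_eq_zero_of_killed hk le_rfl (a := resO 𝔛 hX.1 (Dop_le hX.1 f) a) (by
      rw [pR_resO, RingHom.mem_ker.1 ((O_spec 𝔛 hX hV).2.2 k ▸ ha)]
      exact map_zero _)
    rwa [show rsF M le_rfl t = t from res_self M _ t] at h1
  obtain ⟨V₀, hV₀, hxV₀, hmem⟩ := hg (Dop_le hX.1 f) t x hx
  obtain ⟨n, g, c, hc⟩ := exists_fin_span hmem
  obtain ⟨h, hxh, hh⟩ := exists_Dop hX hV hxV₀ (Dop_le hX.1 f hx)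
  obtain ⟨k', hk'⟩ := exists_killed_family hV.isCompact g fun i => hT _
  choose N b hb using fun i => exists_num hX hV h k' (resO 𝔛 hX.1 hh (c i))
  let N₀ := Finset.univ.sup N
  let eh := Dop_le hX.1 h
  let u₀ : SF 𝔛 hX.1 M V := ∑ i, (h ^ (N₀ - N i) * b i) • g i
  have hhf : Dop hX.1 h ≤ Dop hX.1 f := hh.trans hV₀
  have hu₀ : rsF M eh u₀ = resO 𝔛 hX.1 eh h ^ N₀ • rsF M hhf t := by
    have h1 : rsF M hhf t = ∑ i, resO 𝔛 hX.1 hh (c i) • rsF M eh (g i) :=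
      (rsF_rsF M hV₀ hh t).symm.trans ((congrArg (rsF M hh) hc).trans (rsF_comb M _ hh c g))
    rw [h1, Finset.smul_sum, rsF_sum hX]
    refine Finset.sum_congr rfl fun i _ => ?_
    rw [rsF_smul hX, ← mul_smul, map_mul, map_pow, ← sub_eq_zero, ← sub_smul]
    refine smul_eq_zero_of_mem hX (isAffineOpen_Dop hX.1 hV h) ((hk' i).rs eh) ?_
    have h2 : N₀ = (N₀ - N i) + N i := (Nat.sub_add_cancel (Finset.le_sup (Finset.mem_univ i))).symm
    have h3 := Ideal.mul_mem_left _ (resO 𝔛 hX.1 eh h ^ (N₀ - N i)) (neg_mem (hb i))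
    rw [neg_sub, mul_sub, ← mul_assoc _ (resO 𝔛 hX.1 eh h ^ N i), ← pow_add, ← h2] at h3
    exact h3
  let ef := Dop_le hX.1 f
  let w : SF 𝔛 hX.1 M (Dop hX.1 f) := rsF M ef u₀ - resO 𝔛 hX.1 ef h ^ N₀ • t
  have hw : Tors M w := by
    rw [show w = rsF M ef u₀ + (-1 : O 𝔛 hX.1 (Dop hX.1 f)) • (resO 𝔛 hX.1 ef h ^ N₀ • t) by
      rw [neg_one_smul, ← sub_eq_add_neg]]
    exact _root_.FTors.IsTorsSect.add (_root_.FTors.IsTorsSect.res (homOfLE ef) (hT u₀))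
      (_root_.FTors.IsTorsSect.smul _ (_root_.FTors.IsTorsSect.smul _ ht))
  have hle : Dop hX.1 (resO 𝔛 hX.1 ef h) ≤ Dop hX.1 h := (Dop_res hX.1 ef h).le.trans inf_le_right
  obtain ⟨P, hP⟩ := exists_pow_smul_eq_zero hX hM hD (resO 𝔛 hX.1 ef h) w hw (by
    have h1 := congrArg (rsF M hle) hu₀
    rw [rsF_pow_smul hX, rsF_rsF, rsF_rsF, resO_resO] at h1
    refine (res_sub M _ _ _).trans (sub_eq_zero.2 ?_)
    refine (rsF_rsF M ef _ u₀).trans (h1.trans ?_)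
    rw [← resO_resO ef (Dop_le hX.1 (resO 𝔛 hX.1 ef h)) h]
    exact (rsF_pow_smul hX _ _ _ _).symm)
  refine ⟨h ^ (P + N₀), ⟨h ^ P • u₀, ?_⟩, mem_Dop_pow hxh _⟩
  rw [smul_sub, sub_eq_zero] at hP
  rw [rsF_pow_smul hX, hP, map_pow, pow_add, mul_smul]

omit hM in
theorem eq_smul_of_unit {W : (𝔛.X 0).Opens} {a : O 𝔛 hX.1 W} (ha : IsUnit a) {x y : SF 𝔛 hX.1 M W}
    (h : y = a • x) : x = (↑ha.unit⁻¹ : O 𝔛 hX.1 W) • y := by
  rw [h, smul_smul, IsUnit.val_inv_mul, one_smul]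

variable (hL : LGen M) (hT : _root_.FTors.IsTorsF 𝔛 hX.1 M)
include hL hT

/-- Sections of a torsion module extend up to a power of `f` over affine opens. -/
theorem extend_affine {U : (𝔛.X 0).Opens} (hU : IsAffineOpen U) (f : O 𝔛 hX.1 U)
    (t : SF 𝔛 hX.1 M (Dop hX.1 f)) :
    ∃ (N : ℕ) (u : SF 𝔛 hX.1 M U), rsF M (Dop_le hX.1 f) u = resO 𝔛 hX.1 (Dop_le hX.1 f) f ^ N • t := by
  classical
  have hloc : ∀ x : U, ∃ e : O 𝔛 hX.1 U, x.1 ∈ Dop hX.1 e ∧ GenOn M (Dop hX.1 e) := fun x => by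
    obtain ⟨U₀, _, hxU₀, hle, hg⟩ := hL.nhd x.2
    obtain ⟨e, hxe, he⟩ := exists_Dop hX hU hxU₀ x.2
    exact ⟨e, hxe, hg.mono he⟩
  choose e hxe hge using hloc
  obtain ⟨S, hS⟩ := hU.isCompact.elim_finite_subcover (fun x : U => (Dop hX.1 (e x) : Set (𝔛.X 0)))
    (fun x => (Dop hX.1 (e x)).2) fun x hx => Set.mem_iUnion.2 ⟨⟨x, hx⟩, hxe ⟨x, hx⟩⟩
  let D : S → (𝔛.X 0).Opens := fun i => Dop hX.1 (e i.1)
  have hD : ∀ i, D i ≤ U := fun i => Dop_le hX.1 _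
  let fD : ∀ i, O 𝔛 hX.1 (D i) := fun i => resO 𝔛 hX.1 (hD i) f
  have hDf : ∀ i, Dop hX.1 (fD i) ≤ Dop hX.1 f := fun i => (Dop_res hX.1 (hD i) f).le.trans inf_le_right
  choose N v hv using fun i : S => extend hX hM (isAffineOpen_Dop hX.1 hU (e i.1)) (hge i.1) (fun u => hT _ u)
    (fD i) (rsF M (hDf i) t) (hT _ _)
  let N₀ := Finset.univ.sup N
  let v' : ∀ i, SF 𝔛 hX.1 M (D i) := fun i => fD i ^ (N₀ - N i) • v i
  have hv' : ∀ i (W : (𝔛.X 0).Opens) (e₁ : W ≤ D i) (e₂ : W ≤ Dop hX.1 f),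
      rsF M e₁ (v' i) = resO 𝔛 hX.1 (e₁.trans (hD i)) f ^ N₀ • rsF M e₂ t := by
    intro i W e₁ e₂
    have e₃ : W ≤ Dop hX.1 (fD i) := (le_inf e₁ e₂).trans (Dop_res hX.1 (hD i) f).ge
    have h1 := congrArg (rsF M e₃) (hv i)
    rw [rsF_pow_smul hX, rsF_rsF, rsF_rsF, resO_resO] at h1
    rw [rsF_pow_smul hX, h1, ← mul_smul, ← pow_add,
      Nat.sub_add_cancel (Finset.le_sup (Finset.mem_univ i))]
    exact congrArg (fun a => a ^ N₀ • rsF M e₂ t) (resO_resO (hD i) e₁ f)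
  have hvP : ∀ i (P : ℕ) (W : (𝔛.X 0).Opens) (e₁ : W ≤ D i),
      rsF M e₁ (fD i ^ P • v' i) = resO 𝔛 hX.1 (e₁.trans (hD i)) f ^ P • rsF M e₁ (v' i) := fun i P W e₁ =>
    (rsF_pow_smul hX e₁ _ P _).trans
      (congrArg (fun a => a ^ P • rsF M e₁ (v' i)) (resO_resO (hD i) e₁ f))
  have hov : ∀ p : S × S, ∃ P, ∀ (W : (𝔛.X 0).Opens) (e₁ : W ≤ D p.1) (e₂ : W ≤ D p.2),
      resO 𝔛 hX.1 (e₁.trans (hD p.1)) f ^ P • (rsF M e₁ (v' p.1) - rsF M e₂ (v' p.2)) = 0 := by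
    rintro ⟨i, j⟩
    let C := Dop hX.1 (resO 𝔛 hX.1 (hD i) (e j.1))
    have hC : IsAffineOpen C := isAffineOpen_Dop hX.1 (isAffineOpen_Dop hX.1 hU _) _
    have hC₁ : C ≤ D i := Dop_le hX.1 _
    have hC₂ : C ≤ D j := (Dop_res hX.1 (hD i) (e j.1)).le.trans inf_le_right
    let fC := resO 𝔛 hX.1 (hC₁.trans (hD i)) f
    have hCf : Dop hX.1 fC ≤ Dop hX.1 f := (Dop_res hX.1 _ f).le.trans inf_le_right
    obtain ⟨P, hP⟩ := exists_pow_smul_eq_zero hX hM hC fC (rsF M hC₁ (v' i) - rsF M hC₂ (v' j)) (hT _ _) (by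
      refine (res_sub M _ _ _).trans (sub_eq_zero.2 ?_)
      refine (rsF_rsF M hC₁ _ _).trans (((hv' i _ _ hCf).trans ?_).trans (rsF_rsF M hC₂ _ _).symm)
      exact (hv' j _ _ hCf).symm)
    refine ⟨P, fun W e₁ e₂ => ?_⟩
    have hWC : W ≤ C := (le_inf e₁ e₂).trans (Dop_res hX.1 (hD i) (e j.1)).ge
    have h1 := (congrArg (rsF M hWC) hP).trans (res_zero M _)
    rw [rsF_pow_smul hX, resO_resO, show rsF M hWC (rsF M hC₁ (v' i) - rsF M hC₂ (v' j)) = _ from res_sub M _ _ _] at h1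
    exact (congrArg₂ (fun a b => resO 𝔛 hX.1 (e₁.trans (hD i)) f ^ P • (a - b))
      (rsF_rsF M hC₁ hWC (v' i)).symm (rsF_rsF M hC₂ hWC (v' j)).symm).trans h1
  choose P hP using hov
  let P₀ := Finset.univ.sup P
  obtain ⟨u, hu⟩ := glue M D hD (fun x hx => by
      obtain ⟨y, hy, hxy⟩ := Set.mem_iUnion₂.1 (hS hx)
      exact ⟨⟨y, hy⟩, hxy⟩)
    (fun i => fD i ^ P₀ • v' i) fun i j => by
      show rsF M (inf_le_left : D i ⊓ D j ≤ D i) _ = rsF M (inf_le_right : D i ⊓ D j ≤ D j) _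
      rw [hvP, hvP, ← sub_eq_zero, ← smul_sub,
        show P₀ = P₀ - P (i, j) + P (i, j) from (Nat.sub_add_cancel (Finset.le_sup (Finset.mem_univ _))).symm,
        pow_add, mul_smul, hP (i, j) _ inf_le_left inf_le_right, smul_zero]
  refine ⟨P₀ + N₀, u, eq_of_locally M _ _ fun x hx => ?_⟩
  obtain ⟨y, hy, hxy⟩ := Set.mem_iUnion₂.1 (hS (Dop_le hX.1 f hx))
  refine ⟨Dop hX.1 f ⊓ D ⟨y, hy⟩, inf_le_left, ⟨hx, hxy⟩, ?_⟩
  have e₁ : Dop hX.1 f ⊓ D ⟨y, hy⟩ ≤ D ⟨y, hy⟩ := inf_le_right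
  show rsF M inf_le_left (rsF M (Dop_le hX.1 f) u) = rsF M inf_le_left _
  rw [rsF_pow_smul hX, rsF_rsF, ← rsF_rsF M (hD ⟨y, hy⟩) e₁, show rsF M (hD ⟨y, hy⟩) u = _ from hu ⟨y, hy⟩,
    hvP, hv' ⟨y, hy⟩ _ _ inf_le_left, resO_resO, pow_add, mul_smul]

/-- Torsion modules with generated relations and local generators are generated on all affine opens. -/
theorem genOn_affine {U : (𝔛.X 0).Opens} (hU : IsAffineOpen U) : GenOn M U := by
  intro W hW s x hx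
  obtain ⟨U₀, _, hxU₀, hle, hg⟩ := hL.nhd hx
  obtain ⟨f, hxf, hf⟩ := exists_Dop hX hU hxU₀ (hW hx)
  have hfW : Dop hX.1 f ≤ W := hf.trans hle
  obtain ⟨V, hV, hxV, hmem⟩ := hg.mono hf (W := Dop hX.1 f) le_rfl (rsF M hfW s) x hxf
  refine ⟨V, hV.trans hfW, hxV, ?_⟩
  rw [rsF_rsF] at hmem
  refine Submodule.span_le.2 ?_ hmem
  rintro _ ⟨t, rfl⟩
  obtain ⟨N, u, hu⟩ := extend_affine hX hM hL hT hU f t
  have hu' : IsUnit (resO 𝔛 hX.1 (Dop_le hX.1 f) f ^ N) :=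
    (isUnit_resO_of_le hX (isAffineOpen_Dop hX.1 hU f) f _ le_rfl).pow N
  show rsF M hV t ∈ Submodule.span _ _
  rw [eq_smul_of_unit hX hu' hu, rsF_smul hX, rsF_rsF]
  exact Submodule.smul_mem _ _ (Submodule.subset_span ⟨u, rfl⟩)

end Groth.L28.QCT
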