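import Groth.Agent.L09.IndCoh.Coreflect
import Groth.Agent.L09.IndCoh.SheafHom
import Groth.Agent.L09.IndCoh.SpanSub
import Groth.Agent.L09.IndCoh.Five
import Groth.Agent.L17.FSheaf.LevelIdeal
import Groth.Prelude.Def_FTors2

/-!
# Basic opens and torsion sections on affine opens of formal schemes
-/

set_option autoImplicit false
set_option linter.style.haveILetI false
set_option linter.unusedSectionVars false
set_option backward.isDefEq.respectTransparency false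
set_option backward.isDefEq.respectTransparency.types false

universe u

open CategoryTheory CategoryTheory.Limits AlgebraicGeometry TopologicalSpace Opposite

noncomputable section

namespace Groth.L28.QCT

open Groth.L17.FSheaf Groth.L09.IndCoh
open Groth.L18.Frame (ro)

theorem sup_pow_le' {A : Type*} [CommRing A] (a b : Ideal A) (n : ℕ) : (a ⊔ b) ^ (n + 1) ≤ a ⊔ b ^ (n + 1) := by
  induction n with
  | zero => simp
  | succ n ih =>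
    rw [pow_succ, pow_succ b (n + 1)]
    calc (a ⊔ b) ^ (n + 1) * (a ⊔ b) ≤ (a ⊔ b ^ (n + 1)) * (a ⊔ b) := Ideal.mul_mono ih le_rfl
      _ ≤ a ⊔ b ^ (n + 1) * b := by
        rw [Ideal.sup_mul]
        refine sup_le ((Ideal.mul_le_left (I := a) (J := a ⊔ b)).trans le_sup_left) ?_
        rw [Ideal.mul_sup]
        exact sup_le_sup Ideal.mul_le_right le_rfl

theorem isUnit_ro {X : Scheme.{u}} {U V : X.Opens} (r : Γ(X, U)) (e : V ≤ U) (e' : V ≤ X.basicOpen r) :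
    IsUnit (ro e r) := by
  have h1 := (X.toRingedSpace.isUnit_res_basicOpen r).map (X.presheaf.map (homOfLE e').op).hom
  convert h1 using 1
  exact ConcreteCategory.congr_hom (X.presheaf.map_comp (homOfLE (X.basicOpen_le r)).op (homOfLE e').op) r

theorem exists_num_scheme {X : Scheme.{u}} {W B : X.Opens} (hW : IsAffineOpen W) (r : Γ(X, W))
    (e : B = X.basicOpen r) (e' : B ≤ W) (c : Γ(X, B)) :
    ∃ (N : ℕ) (a : Γ(X, W)), ro e' r ^ N * c = ro e' a := by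
  subst e
  haveI := hW.isLocalization_basicOpen r
  obtain ⟨⟨a, ⟨_, N, rfl⟩⟩, hs⟩ := IsLocalization.surj (Submonoid.powers r) c
  refine ⟨N, a, ?_⟩
  rw [mul_comm, ← map_pow]
  exact hs

variable {𝔛 : FSch.Sys.{u}} (h : 𝔛.IsFormal)

/-- The open where a section of the structure sheaf does not vanish. -/
abbrev Dop {U : (𝔛.X 0).Opens} (a : O 𝔛 h U) : (𝔛.X 0).Opens := (𝔛.X 0).basicOpen (pR 𝔛 h 0 U a)

theorem Dop_le {U : (𝔛.X 0).Opens} (a : O 𝔛 h U) : Dop h a ≤ U :=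
  ((𝔛.X 0).basicOpen_le _).trans (lvU_zero 𝔛 h U).le

theorem Dop_res {U V : (𝔛.X 0).Opens} (e : V ≤ U) (a : O 𝔛 h U) : Dop h (resO 𝔛 h e a) = V ⊓ Dop h a := by
  show (𝔛.X 0).basicOpen (pR 𝔛 h 0 V (resO 𝔛 h e a)) = _
  rw [pR_resO]
  refine (Scheme.basicOpen_res _ _ (homOfLE (lvU_mono 𝔛 h 0 e)).op).trans ?_
  rw [lvU_zero]

theorem isAffineOpen_Dop {U : (𝔛.X 0).Opens} (hU : IsAffineOpen U) (a : O 𝔛 h U) : IsAffineOpen (Dop h a) :=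
  (isAffineOpen_lvU 𝔛 h hU 0).basicOpen _

theorem lvU_Dop {U : (𝔛.X 0).Opens} (k : ℕ) (a : O 𝔛 h U) :
    𝔛.lvU h k (Dop h a) = (𝔛.X k).basicOpen (pR 𝔛 h k U a) := by
  have h0 : Dop h a = 𝔛.lvU h 0 U ⊓ 𝔛.toX k ⁻¹ᵁ (𝔛.X k).basicOpen (pR 𝔛 h k U a) := by
    rw [← Scheme.basicOpen_appLE]
    show _ = (𝔛.X 0).basicOpen (vR 𝔛 h k U (pR 𝔛 h k U a))
    rw [← RingHom.comp_apply, vR_pR]
  have h1 : 𝔛.toX k ⁻¹ᵁ (𝔛.X k).basicOpen (pR 𝔛 h k U a) ≤ 𝔛.lvU h 0 U :=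
    ((𝔛.toX k).preimage_mono ((𝔛.X k).basicOpen_le _)).trans
      (((toX_preimage_lvU 𝔛 h k U).trans (lvU_zero 𝔛 h U).symm).le)
  rw [inf_eq_right.2 h1, ← toX_preimage_lvU 𝔛 h k (Dop h a)] at h0
  ext y
  obtain ⟨x, rfl⟩ := 𝔛.toX_surjective h k y
  exact SetLike.ext_iff.1 h0 x

variable (hX : 𝔛.IsLocNoethFormal)

theorem isUnit_of_pR_zero {U : (𝔛.X 0).Opens} (hU : IsAffineOpen U) {a : O 𝔛 hX.1 U}
    (ha : IsUnit (pR 𝔛 hX.1 0 U a)) : IsUnit a := by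
  obtain ⟨b, hb⟩ := pR_surjective 𝔛 hX.1 hU 0 (↑ha.unit⁻¹)
  have h0 : a * b - 1 ∈ Ideal.jacobson (⊥ : Ideal (O 𝔛 hX.1 U)) := by
    haveI := (O_spec 𝔛 hX hU).2.1
    refine IsAdicComplete.le_jacobson_bot (J 𝔛 hX.1 U) ?_
    rw [RingHom.mem_ker, map_sub, map_mul, hb, map_one, IsUnit.mul_val_inv, sub_self]
  have h1 := Ideal.mem_jacobson_bot.1 h0 1
  rw [mul_one, sub_add_cancel] at h1
  exact isUnit_of_mul_isUnit_left h1

theorem isUnit_resO_of_le {U V : (𝔛.X 0).Opens} (hV : IsAffineOpen V) (a : O 𝔛 hX.1 U) (e : V ≤ U)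
    (e' : V ≤ Dop hX.1 a) : IsUnit (resO 𝔛 hX.1 e a) := by
  refine isUnit_of_pR_zero hX hV ?_
  rw [pR_resO]
  exact isUnit_ro _ _ ((lvU_zero 𝔛 hX.1 V).le.trans e')

theorem exists_num {U : (𝔛.X 0).Opens} (hU : IsAffineOpen U) (a : O 𝔛 hX.1 U) (k : ℕ)
    (c : O 𝔛 hX.1 (Dop hX.1 a)) : ∃ (N : ℕ) (b : O 𝔛 hX.1 U),
    resO 𝔛 hX.1 (Dop_le hX.1 a) a ^ N * c - resO 𝔛 hX.1 (Dop_le hX.1 a) b ∈ J 𝔛 hX.1 (Dop hX.1 a) ^ (k + 1) := by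
  obtain ⟨N, z, hz⟩ := exists_num_scheme (isAffineOpen_lvU 𝔛 hX.1 hU k) _ (lvU_Dop hX.1 k a)
    (lvU_mono 𝔛 hX.1 k (Dop_le hX.1 a)) (pR 𝔛 hX.1 k _ c)
  obtain ⟨b, rfl⟩ := pR_surjective 𝔛 hX.1 hU k z
  refine ⟨N, b, ?_⟩
  rw [← (O_spec 𝔛 hX (isAffineOpen_Dop hX.1 hU a)).2.2 k, RingHom.mem_ker, map_sub, map_mul, map_pow, pR_resO,
    pR_resO, hz, sub_self]

/-- A section whose nonvanishing locus is covered by those of the elements of an open ideal has a power in it. -/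
theorem exists_pow_mem {U : (𝔛.X 0).Opens} (hU : IsAffineOpen U) (f : O 𝔛 hX.1 U) {A : Ideal (O 𝔛 hX.1 U)} {k : ℕ}
    (hJ : J 𝔛 hX.1 U ^ (k + 1) ≤ A) (hf : ∀ x ∈ Dop hX.1 f, ∃ a ∈ A, x ∈ Dop hX.1 a) : ∃ N, f ^ N ∈ A := by
  let hU₀ := isAffineOpen_lvU 𝔛 hX.1 hU 0
  have h1 : pR 𝔛 hX.1 0 U f ∈ (A.map (pR 𝔛 hX.1 0 U)).radical := by
    rw [Ideal.radical_eq_sInf, Submodule.mem_sInf]
    rintro P ⟨hle, hP⟩
    by_contra hfP
    let p : PrimeSpectrum Γ(𝔛.X 0, 𝔛.lvU hX.1 0 U) := ⟨P, hP⟩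
    have hp : ∀ a, hU₀.fromSpec p ∈ Dop hX.1 a ↔ pR 𝔛 hX.1 0 U a ∉ P := fun a =>
      SetLike.ext_iff.1 (hU₀.fromSpec_preimage_basicOpen (pR 𝔛 hX.1 0 U a)) p
    obtain ⟨a, ha, hpa⟩ := hf _ ((hp f).2 hfP)
    exact (hp a).1 hpa (hle (Ideal.mem_map_of_mem _ ha))
  obtain ⟨n, hn⟩ := h1
  rw [← map_pow, ← Ideal.mem_comap, Ideal.comap_map_of_surjective' _ (pR_surjective 𝔛 hX.1 hU 0)] at hn
  refine ⟨n * (k + 1), ?_⟩
  rw [pow_mul]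
  exact (sup_pow_le' A (J 𝔛 hX.1 U) k).trans (sup_le le_rfl hJ) (Ideal.pow_mem_pow hn (k + 1))

/-- A point where finitely generated unit ideals do not vanish. -/
theorem exists_mem_Dop {U W : (𝔛.X 0).Opens} (e : W ≤ U) (A : Ideal (O 𝔛 hX.1 U))
    (h1 : (1 : O 𝔛 hX.1 W) ∈ A.map (resO 𝔛 hX.1 e)) {x : 𝔛.X 0} (hx : x ∈ W) : ∃ a ∈ A, x ∈ Dop hX.1 a := by
  by_contra hne
  push Not at hne
  have hx' : x ∈ 𝔛.lvU hX.1 0 W := (lvU_zero 𝔛 hX.1 W).ge hx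
  let φ : O 𝔛 hX.1 W →+* (𝔛.X 0).presheaf.stalk x :=
    ((𝔛.X 0).presheaf.germ _ x hx').hom.comp (pR 𝔛 hX.1 0 W)
  have hle : A.map (resO 𝔛 hX.1 e) ≤ (IsLocalRing.maximalIdeal ((𝔛.X 0).presheaf.stalk x)).comap φ := by
    refine Ideal.map_le_iff_le_comap.2 fun a ha => ?_
    rw [Ideal.mem_comap, Ideal.mem_comap, IsLocalRing.mem_maximalIdeal, mem_nonunits_iff]
    intro hu
    have hxD : x ∈ Dop hX.1 (resO 𝔛 hX.1 e a) := ((𝔛.X 0).mem_basicOpen _ x hx').2 hu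
    rw [Dop_res] at hxD
    exact hne a ha hxD.2
  have := hle h1
  rw [Ideal.mem_comap, map_one] at this
  exact (IsLocalRing.maximalIdeal.isMaximal _).ne_top ((Ideal.eq_top_iff_one _).2 this)

theorem exists_Dop {U W : (𝔛.X 0).Opens} (hU : IsAffineOpen U) {x : 𝔛.X 0} (hxW : x ∈ W) (hxU : x ∈ U) :
    ∃ f : O 𝔛 hX.1 U, x ∈ Dop hX.1 f ∧ Dop hX.1 f ≤ W := by
  obtain ⟨r, hr, hxr⟩ := (isAffineOpen_lvU 𝔛 hX.1 hU 0).exists_basicOpen_le (V := W) ⟨x, hxW⟩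
    ((lvU_zero 𝔛 hX.1 U).ge hxU)
  obtain ⟨f, rfl⟩ := pR_surjective 𝔛 hX.1 hU 0 r
  exact ⟨f, hxr, hr⟩

end Groth.L28.QCT
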