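import Groth.Agent.L28.FTors.Main
import Groth.Agent.L15.LocPres.QcSpace
import Groth.Agent.L00.ModSiteTensor

/-!
# The coreflection onto quasi-coherent torsion modules and filtered colimits
-/

set_option autoImplicit false
set_option linter.style.haveILetI false
set_option linter.unusedSectionVars false
set_option backward.isDefEq.respectTransparency false
set_option backward.isDefEq.respectTransparency.types false

universe u

open CategoryTheory CategoryTheory.Limits AlgebraicGeometry TopologicalSpace Opposite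

noncomputable section

namespace Groth.L28.QCT

open Groth.L17.FSheaf Groth.L09.IndCoh

variable {𝔛 : FSch.Sys.{u}} (hX : 𝔛.IsLocNoethFormal) [CompactSpace (𝔛.X 0)]

include hX in
theorem exists_finite_refinement_noeth (ι : Type u) (V : ι → (𝔛.X 0).Opens) (hV : iSup V = ⊤) :
    ∃ (J : Type u) (_ : Finite J) (U : J → (𝔛.X 0).Opens), iSup U = ⊤ ∧ (∀ j, ∃ i, U j ≤ V i) ∧
      ∀ j j', IsCompact ((U j ⊓ U j' : (𝔛.X 0).Opens) : Set (𝔛.X 0)) := by
  haveI := hX.2.2 0
  haveI : IsNoetherian (𝔛.X 0) := {}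
  obtain ⟨t, ht⟩ := isCompact_univ.elim_finite_subcover (fun i => (V i : Set (𝔛.X 0))) (fun i => (V i).2)
    fun x _ => Set.mem_iUnion.2 (Opens.mem_iSup.1 (show x ∈ iSup V by rw [hV]; trivial))
  refine ⟨t, inferInstance, fun i => V i.1, top_le_iff.1 fun x _ => ?_, fun i => ⟨i.1, le_rfl⟩,
    fun _ _ => NoetherianSpace.isCompact _⟩
  obtain ⟨y, hy, hxy⟩ := Set.mem_iUnion₂.1 (ht (Set.mem_univ x))
  exact Opens.mem_iSup.2 ⟨⟨y, hy⟩, hxy⟩

theorem preservesColimit_coyoneda_coh {H : FSch.ModF 𝔛 hX.1} (hH : FSch.IsCohF 𝔛 hX.1 H) {Λ : Type u}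
    [SmallCategory Λ] [IsFiltered Λ] (D : Λ ⥤ FSch.ModF 𝔛 hX.1) : PreservesColimit D (coyoneda.obj (op H)) := by
  haveI : SheafOfModules.IsFinitePresentation (R := ModSite.ringSh (𝔛.Osh hX.1)) H := hH
  haveI := Groth.L00.ModSiteTensor.hasSheafHom (O := 𝔛.Osh hX.1) H
  obtain ⟨h⟩ := Groth.L15.LocPres.nonempty_isColimit_sheafHom (O := 𝔛.Osh hX.1) H (colimit.isColimit D)
  exact Groth.L15.LocPres.preservesColimit_coyoneda (O := 𝔛.Osh hX.1) H (colimit.isColimit D)
    (Groth.L15.LocPres.gLift_space (exists_finite_refinement_noeth hX) h)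
    (Groth.L15.LocPres.gZero_space (exists_finite_refinement_noeth hX) h)

variable {Q : FSch.ModF 𝔛 hX.1 ⥤ (_root_.FTors.IsQCT 𝔛 hX.1).FullSubcategory}
  (adj : (_root_.FTors.IsQCT 𝔛 hX.1).ι ⊣ Q)

omit [CompactSpace (𝔛.X 0)] in
theorem existsUnique_lift (N : FSch.ModF 𝔛 hX.1) (G : FSch.ModF 𝔛 hX.1) (hG : _root_.FTors.IsQCT 𝔛 hX.1 G)
    (f : G ⟶ N) : ∃! a : G ⟶ (Q.obj N).obj, a ≫ adj.counit.app N = f := by
  let G' : (_root_.FTors.IsQCT 𝔛 hX.1).FullSubcategory := ⟨G, hG⟩
  let e := adj.homEquiv G' N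
  refine ⟨(e f).hom, ?_, fun b hb => ?_⟩
  · exact (adj.homEquiv_counit _ _ _).symm.trans (e.symm_apply_apply f)
  · have h1 : e.symm (ObjectProperty.homMk b) = f := (adj.homEquiv_counit _ _ _).trans hb
    rw [← h1, Equiv.apply_symm_apply]
    rfl

include adj in
theorem preservesColimit_coreflection {J : Type u} [SmallCategory J] [IsFiltered J] (K : J ⥤ FSch.ModF 𝔛 hX.1) :
    PreservesColimit K Q := by
  let P := _root_.FTors.IsQCT 𝔛 hX.1
  let c := colimit.cocone K
  let D : J ⥤ FSch.ModF 𝔛 hX.1 := (K ⋙ Q) ⋙ P.ι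
  let d := colimit.cocone D
  have hd : IsColimit d := colimit.isColimit D
  have hR : P d.pt := isQCT_colim hX hd fun j => (Q.obj (K.obj j)).property
  let ε := adj.counit
  have hεn : ∀ {X Y : FSch.ModF 𝔛 hX.1} (f : X ⟶ Y), (Q.map f).hom ≫ ε.app Y = ε.app X ≫ f := fun f =>
    ε.naturality f
  let dψ : Cocone D :=
    { pt := c.pt
      ι := { app := fun j => ε.app (K.obj j) ≫ c.ι.app j
             naturality := fun j k a => by
              dsimp [D, P]
              rw [Category.comp_id, reassoc_of% (hεn (K.map a))]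
              exact congrArg (ε.app (K.obj j) ≫ ·) (c.w a) } }
  let ψ : d.pt ⟶ c.pt := hd.desc dψ
  have hψ : ∀ j, d.ι.app j ≫ ψ = ε.app (K.obj j) ≫ c.ι.app j := fun j => hd.fac dψ j
  have hcoh : ∀ (H : FSch.ModF 𝔛 hX.1), FSch.IsCohF 𝔛 hX.1 H → P H → ∀ f : H ⟶ c.pt,
      ∃! a : H ⟶ d.pt, a ≫ ψ = f := fun H hH hHP f => by
    haveI := preservesColimit_coyoneda_coh hX hH K
    haveI := preservesColimit_coyoneda_coh hX hH D
    have hcK := isColimitOfPreserves (coyoneda.obj (op H)) (colimit.isColimit K)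
    have hcD := isColimitOfPreserves (coyoneda.obj (op H)) hd
    have hinj : ∀ a : H ⟶ d.pt, a ≫ ψ = 0 → a = 0 := fun a ha => by
      obtain ⟨j, b, hb⟩ := Types.jointly_surjective_of_isColimit hcD a
      let b' : H ⟶ D.obj j := b
      have hb' : b' ≫ d.ι.app j = a := hb
      have h0 : (b' ≫ ε.app (K.obj j)) ≫ c.ι.app j = (0 : H ⟶ K.obj j) ≫ c.ι.app j := by
        rw [zero_comp, Category.assoc, ← hψ, ← Category.assoc, hb', ha]
      obtain ⟨k, f₁, f₂, hk⟩ := (Types.FilteredColimit.isColimit_eq_iff _ hcK).1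
        (show (coyoneda.obj (op H)).map (c.ι.app j) (b' ≫ ε.app (K.obj j)) =
          (coyoneda.obj (op H)).map (c.ι.app j) (0 : H ⟶ K.obj j) from h0)
      have hk' : (b' ≫ ε.app (K.obj j)) ≫ K.map f₁ = 0 :=
        Eq.trans (show (b' ≫ ε.app (K.obj j)) ≫ K.map f₁ = (0 : H ⟶ K.obj j) ≫ K.map f₂ from hk) zero_comp
      have h1 : b' ≫ D.map f₁ = 0 := (existsUnique_lift hX adj (K.obj k) H hHP 0).unique
        (y₁ := b' ≫ D.map f₁) (y₂ := 0)
        ((Category.assoc _ _ _).trans ((congrArg (b' ≫ ·) (hεn (K.map f₁))).trans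
          ((Category.assoc _ _ _).symm.trans hk'))) zero_comp
      rw [← hb', ← d.w f₁, ← Category.assoc, h1, zero_comp]
    obtain ⟨j, g, hg⟩ := Types.jointly_surjective_of_isColimit hcK f
    let g' : H ⟶ K.obj j := g
    have hg' : g' ≫ c.ι.app j = f := hg
    obtain ⟨b, hb, -⟩ := existsUnique_lift hX adj (K.obj j) H hHP g'
    refine ⟨b ≫ d.ι.app j, ?_, fun a ha => sub_eq_zero.1 (hinj _ ?_)⟩
    · show (b ≫ d.ι.app j) ≫ ψ = f
      rw [Category.assoc, hψ, ← Category.assoc, hb, hg']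
    · rw [Preadditive.sub_comp, ha, sub_eq_zero, Category.assoc, hψ, ← Category.assoc, hb, hg']
  have hall : ∀ (G : FSch.ModF 𝔛 hX.1), P G → ∀ f : G ⟶ c.pt, ∃! a : G ⟶ d.pt, a ≫ ψ = f := fun G hG f => by
    obtain ⟨Λ, _, _, pres, hcohp, hmono⟩ := exists_mono_pres hX (good_of_isQCT hX hG)
    have hP : ∀ i, P (pres.diag.obj i) := fun i =>
      isQCT_of_good hX (haveI := hmono i; isTorsF_of_mono hX (pres.ι.app i) hG.1) (good_coh hX (hcohp i))
    choose a ha hau using fun i => hcoh _ (hcohp i) (hP i) (pres.ι.app i ≫ f)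
    let t : Cocone pres.diag :=
      { pt := d.pt
        ι := { app := a
               naturality := fun i j u => by
                dsimp
                rw [Category.comp_id]
                refine hau i _ ?_
                show (pres.diag.map u ≫ a j) ≫ ψ = _
                rw [Category.assoc, ha, ← Category.assoc, pres.ι.naturality u]
                dsimp
                rw [Category.comp_id] } }
    refine ⟨pres.isColimit.desc t, pres.isColimit.hom_ext fun i => ?_, fun b hb => pres.isColimit.hom_ext fun i => ?_⟩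
    · show pres.ι.app i ≫ pres.isColimit.desc t ≫ ψ = pres.ι.app i ≫ f
      rw [pres.isColimit.fac_assoc t i]
      exact ha i
    · rw [pres.isColimit.fac t i]
      exact hau i _ (by show (pres.ι.app i ≫ b) ≫ ψ = _; rw [Category.assoc, hb])
  let R' : P.FullSubcategory := ⟨d.pt, hR⟩
  let d' : Cocone (K ⋙ Q) :=
    { pt := R'
      ι := { app := fun j => ObjectProperty.homMk (d.ι.app j)
             naturality := fun j k a => ObjectProperty.hom_ext _ (d.ι.naturality a) } }
  have hd' : IsColimit d' := isColimitOfReflects P.ι (IsColimit.ofIsoColimit hd (Cocone.ext (Iso.refl _)))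
  obtain ⟨φ, hφ, -⟩ := existsUnique_lift hX adj c.pt d.pt hR ψ
  obtain ⟨χ, hχ, -⟩ := hall (Q.obj c.pt).obj (Q.obj c.pt).property (ε.app c.pt)
  have h₁ : φ ≫ χ = 𝟙 d.pt := (hall d.pt hR ψ).unique (by rw [Category.assoc, hχ, hφ]) (Category.id_comp _)
  have h₂ : χ ≫ φ = 𝟙 (Q.obj c.pt).obj := (existsUnique_lift hX adj c.pt _ (Q.obj c.pt).property (ε.app c.pt)).unique
    (by rw [Category.assoc, hφ, hχ]) (Category.id_comp _)
  refine preservesColimit_of_preserves_colimit_cocone (colimit.isColimit K)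
    (IsColimit.ofIsoColimit hd' (Cocone.ext (P.isoMk ⟨φ, χ, h₁, h₂⟩) fun j => ObjectProperty.hom_ext _ ?_))
  refine (existsUnique_lift hX adj c.pt _ (Q.obj (K.obj j)).property (ε.app (K.obj j) ≫ c.ι.app j)).unique ?_ (hεn _)
  show (d.ι.app j ≫ φ) ≫ ε.app c.pt = _
  rw [Category.assoc, hφ, hψ]

end Groth.L28.QCT
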