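import Groth.Agent.L28.FTors.Gamma
import Mathlib.AlgebraicGeometry.Noetherian
import Mathlib.Order.Zorn

/-!
# Quasi-coherent torsion modules are covered by coherent modules
-/

set_option autoImplicit false
set_option linter.style.haveILetI false
set_option linter.unusedSectionVars false
set_option backward.isDefEq.respectTransparency false
set_option backward.isDefEq.respectTransparency.types false

universe u

open CategoryTheory CategoryTheory.Limits AlgebraicGeometry TopologicalSpace Opposite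

noncomputable section

namespace Groth.L28.QCT

open Groth.L17.FSheaf Groth.L09.IndCoh

variable {𝔛 : FSch.Sys.{u}} (hX : 𝔛.IsLocNoethFormal)

include hX in
theorem isCompact_of_le_affine {U W : (𝔛.X 0).Opens} (hU : IsAffineOpen U) (h : W ≤ U) :
    IsCompact (W : Set (𝔛.X 0)) := by
  haveI := hX.2.2 0
  haveI : IsNoetherianRing Γ(𝔛.X 0, U) := IsLocallyNoetherian.component_noetherian ⟨U, hU⟩
  have hN : NoetherianSpace ↥(U : Set (𝔛.X 0)) := noetherianSpace_of_isAffineOpen U hU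
  have h1 := (@NoetherianSpace.isCompact _ _ hN ((Subtype.val : ↥(U : Set (𝔛.X 0)) → 𝔛.X 0) ⁻¹' (W : Set (𝔛.X 0)))).image
    continuous_subtype_val
  rwa [Subtype.image_preimage_coe, Set.inter_eq_right.2 h] at h1

variable (M : FSch.ModF 𝔛 hX.1)

/-- A submodule which is finitely generated near the points of an open. -/
structure Part where
  /-- the open -/
  V : (𝔛.X 0).Opens
  /-- the submodule -/
  B : ∀ W : (𝔛.X 0).Opens, Submodule (O 𝔛 hX.1 W) (SF 𝔛 hX.1 M W)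
  res_mem : ∀ {W W' : (𝔛.X 0).Opens} (e : W' ≤ W) {s : SF 𝔛 hX.1 M W}, s ∈ B W → rsF M e s ∈ B W'
  loc : ∀ {W : (𝔛.X 0).Opens} (s : SF 𝔛 hX.1 M W),
    (∀ x ∈ W, x ∈ V → ∃ (W' : (𝔛.X 0).Opens) (e : W' ≤ W), x ∈ W' ∧ rsF M e s ∈ B W') → s ∈ B W
  fin : ∀ y ∈ V, ∃ A : (𝔛.X 0).Opens, IsAffineOpen A ∧ y ∈ A ∧ A ≤ V ∧ ∃ (m : ℕ) (g : Fin m → SF 𝔛 hX.1 M A),
    (∀ i, g i ∈ B A) ∧ ∀ (W : (𝔛.X 0).Opens) (hW : W ≤ A) (t : SF 𝔛 hX.1 M W), t ∈ B W → ∀ x ∈ W,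
      ∃ (W' : (𝔛.X 0).Opens) (e : W' ≤ W), x ∈ W' ∧
        rsF M e t ∈ Submodule.span (O 𝔛 hX.1 W') (Set.range fun i => rsF M (e.trans hW) (g i))

variable {M}

/-- Extension of the open, shrinking the submodule outside. -/
def Part.Rel (p q : Part hX M) : Prop :=
  p.V ≤ q.V ∧ (∀ W, q.B W ≤ p.B W) ∧ ∀ W, W ≤ p.V → p.B W ≤ q.B W

theorem Part.Rel.trans {p q r : Part hX M} (h₁ : p.Rel hX q) (h₂ : q.Rel hX r) : p.Rel hX r :=
  ⟨h₁.1.trans h₂.1, fun W => (h₂.2.1 W).trans (h₁.2.1 W),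
    fun W hW => (h₁.2.2 W hW).trans (h₂.2.2 W (hW.trans h₁.1))⟩

theorem Part.Rel.refl (p : Part hX M) : p.Rel hX p := ⟨le_rfl, fun _ => le_rfl, fun _ _ => le_rfl⟩

/-- The sections locally generated by the given ones over an open. -/
abbrev spanIn (U : (𝔛.X 0).Opens) {n : ℕ} (g : Fin n → SF 𝔛 hX.1 M U) (W : (𝔛.X 0).Opens) :
    Submodule (O 𝔛 hX.1 W) (SF 𝔛 hX.1 M W) :=
  locSpan hX M (κ := PUnit.{u + 1}) (fun _ => U) (fun _ => g) W

theorem mem_spanIn {U : (𝔛.X 0).Opens} {n : ℕ} {g : Fin n → SF 𝔛 hX.1 M U} {W : (𝔛.X 0).Opens}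
    {s : SF 𝔛 hX.1 M W} : s ∈ spanIn hX U g W ↔ ∀ x ∈ W, x ∈ U → ∃ (V : (𝔛.X 0).Opens) (hV : V ≤ W) (hVU : V ≤ U),
      x ∈ V ∧ rsF M hV s ∈ Submodule.span (O 𝔛 hX.1 V) (Set.range fun i => rsF M hVU (g i)) :=
  ⟨fun h => h PUnit.unit, fun h _ => h⟩

theorem spanIn_res {U : (𝔛.X 0).Opens} {n : ℕ} (g : Fin n → SF 𝔛 hX.1 M U) {W W' : (𝔛.X 0).Opens} (e : W' ≤ W)
    {s : SF 𝔛 hX.1 M W} (hs : s ∈ spanIn hX U g W) : rsF M e s ∈ spanIn hX U g W' :=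
  (spanPre hX M (κ := PUnit.{u + 1}) (fun _ => U) (fun _ => g)).map (homOfLE e).op hs

theorem spanIn_loc {U : (𝔛.X 0).Opens} {n : ℕ} (g : Fin n → SF 𝔛 hX.1 M U) {W : (𝔛.X 0).Opens}
    (s : SF 𝔛 hX.1 M W)
    (H : ∀ x ∈ W, x ∈ U → ∃ (W' : (𝔛.X 0).Opens) (e : W' ≤ W), x ∈ W' ∧ rsF M e s ∈ spanIn hX U g W') :
    s ∈ spanIn hX U g W := (mem_spanIn hX).2 fun x hx hxU => by
  obtain ⟨W', e, hxW', hs⟩ := H x hx hxU
  obtain ⟨V, hV, hVU, hxV, hmem⟩ := (mem_spanIn hX).1 hs x hxW' hxU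
  exact ⟨V, hV.trans e, hVU, hxV, by rwa [rsF_rsF] at hmem⟩

theorem self_mem_spanIn {U : (𝔛.X 0).Opens} {n : ℕ} (g : Fin n → SF 𝔛 hX.1 M U) (i : Fin n) :
    g i ∈ spanIn hX U g U :=
  (mem_spanIn hX).2 fun _ hx _ => ⟨U, le_rfl, le_rfl, hx, Submodule.subset_span ⟨i, rfl⟩⟩

/-- The part spanned by given sections over an affine open. -/
def Part.start {U : (𝔛.X 0).Opens} (hU : IsAffineOpen U) {n : ℕ} (g : Fin n → SF 𝔛 hX.1 M U) : Part hX M where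
  V := U
  B := spanIn hX U g
  res_mem e _ hs := spanIn_res hX g e hs
  loc s H := spanIn_loc hX g s H
  fin y hy := ⟨U, hU, hy, le_rfl, n, g, self_mem_spanIn hX g, fun W hW t ht x hx => by
    obtain ⟨V, hV, _, hxV, hmem⟩ := (mem_spanIn hX).1 ht x hx (hW hx)
    exact ⟨V, hV, hxV, hmem⟩⟩

theorem exists_ub (c : Set (Part hX M)) (hc : IsChain (Part.Rel hX) c) :
    ∃ ub : Part hX M, ∀ p ∈ c, p.Rel hX ub := by
  have hB : ∀ p ∈ c, ∀ W, W ≤ p.V → p.B W ≤ ⨅ q : c, q.1.B W := fun p hp W hW => le_iInf fun q => by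
    by_cases hpq : p = q.1
    · rw [hpq]
    rcases hc hp q.2 hpq with h1 | h1
    · exact h1.2.2 W hW
    · exact h1.2.1 W
  refine ⟨{ V := ⨆ p : c, p.1.V, B := fun W => ⨅ q : c, q.1.B W, res_mem := ?_, loc := ?_, fin := ?_ },
    fun p hp => ⟨le_iSup (fun p : c => p.1.V) ⟨p, hp⟩, fun W => iInf_le (fun q : c => q.1.B W) ⟨p, hp⟩, hB p hp⟩⟩
  · intro W W' e s hs
    rw [Submodule.mem_iInf] at hs ⊢
    exact fun q => q.1.res_mem e (hs q)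
  · intro W s H
    rw [Submodule.mem_iInf]
    refine fun q => q.1.loc s fun x hx hxV => ?_
    obtain ⟨W', e, hxW', hs⟩ := H x hx (le_iSup (fun p : c => p.1.V) q hxV)
    exact ⟨W', e, hxW', (Submodule.mem_iInf _).1 hs q⟩
  · intro y hy
    obtain ⟨p, hp⟩ := Opens.mem_iSup.1 hy
    obtain ⟨A, hA, hyA, hAV, m, g, hg, hgen⟩ := p.1.fin y hp
    exact ⟨A, hA, hyA, hAV.trans (le_iSup (fun p : c => p.1.V) p), m, g, fun i => hB p.1 p.2 A hAV (hg i),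
      fun W hW t ht => hgen W hW t ((iInf_le (fun q : c => q.1.B W) p :) ht)⟩

variable (hM : QR M) (hL : LGen M) (hT : _root_.FTors.IsTorsF 𝔛 hX.1 M)
include hM hL hT

theorem exists_pow_mem_part (p : Part hX M) {U' : (𝔛.X 0).Opens} (hU' : IsAffineOpen U') (f : O 𝔛 hX.1 U')
    (u : SF 𝔛 hX.1 M U') (hu : rsF M (Dop_le hX.1 f) u ∈ p.B (Dop hX.1 f)) : ∃ P, f ^ P • u ∈ p.B U' := by
  classical
  obtain ⟨k, hk⟩ := Tors.exists_killed hU'.isCompact (hT _ u)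
  have hloc : ∀ y : ↥(U' ⊓ p.V), ∃ (A' : (𝔛.X 0).Opens) (e : A' ≤ U') (P : ℕ), y.1 ∈ A' ∧
      rsF M e (f ^ P • u) ∈ p.B A' := fun y => by
    obtain ⟨A, hA, hyA, hAV, m, g, hg, hgen⟩ := p.fin y.1 y.2.2
    obtain ⟨A', hA', hyA', hle⟩ := Opens.isBasis_iff_nbhd.1 (𝔛.X 0).isBasis_affineOpens
      (show y.1 ∈ A ⊓ U' from ⟨hyA, y.2.1⟩)
    let e : A' ≤ U' := hle.trans inf_le_right
    have eA : A' ≤ A := hle.trans inf_le_left
    obtain ⟨P, hP⟩ := colon hX hM hA' (resO 𝔛 hX.1 e f) (fun i => rsF M eA (g i)) (rsF M e u) (hk.rs e) (fun x hx => by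
      let ed : Dop hX.1 (resO 𝔛 hX.1 e f) ≤ Dop hX.1 f := (Dop_res hX.1 e f).le.trans inf_le_right
      obtain ⟨W', e', hxW', hmem⟩ := hgen _ ((Dop_le hX.1 _).trans eA) _ (p.res_mem ed hu) x hx
      refine ⟨W', e'.trans (Dop_le hX.1 _), hxW', ?_⟩
      rw [rsF_rsF, rsF_rsF] at hmem
      simp only [rsF_rsF]
      exact hmem)
    refine ⟨A', e, P, hyA', ?_⟩
    rw [rsF_pow_smul hX]
    refine (Submodule.span_le.2 ?_) hP
    rintro _ ⟨i, rfl⟩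
    exact p.res_mem eA (hg i)
  choose A' e P hy hP using hloc
  obtain ⟨S, hS⟩ := (isCompact_of_le_affine hX hU' inf_le_left).elim_finite_subcover
    (fun y : ↥(U' ⊓ p.V) => (A' y : Set (𝔛.X 0))) (fun y => (A' y).2)
    fun y hy' => Set.mem_iUnion.2 ⟨⟨y, hy'⟩, hy _⟩
  refine ⟨S.sup P, p.loc _ fun x hx hxV => ?_⟩
  obtain ⟨y, hyS, hxy⟩ := Set.mem_iUnion₂.1 (hS (show x ∈ U' ⊓ p.V from ⟨hx, hxV⟩))
  refine ⟨A' y, e y, hxy, ?_⟩
  rw [rsF_pow_smul hX, ← Nat.sub_add_cancel (Finset.le_sup hyS (f := P)), pow_add, mul_smul]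
  refine Submodule.smul_mem _ _ ?_
  rw [← rsF_pow_smul hX]
  exact hP y

theorem exists_gens_part (p : Part hX M) {U' : (𝔛.X 0).Opens} (hU' : IsAffineOpen U') :
    ∃ (n : ℕ) (g : Fin n → SF 𝔛 hX.1 M U'), (∀ i, g i ∈ p.B U') ∧ ∀ (W : (𝔛.X 0).Opens) (t : SF 𝔛 hX.1 M W),
      t ∈ p.B W → ∀ x ∈ W, x ∈ U' → x ∈ p.V → ∃ (W' : (𝔛.X 0).Opens) (e : W' ≤ W) (e' : W' ≤ U'), x ∈ W' ∧
        rsF M e t ∈ Submodule.span (O 𝔛 hX.1 W') (Set.range fun i => rsF M e' (g i)) := by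
  classical
  have hloc : ∀ y : ↥(U' ⊓ p.V), ∃ (f : O 𝔛 hX.1 U') (m : ℕ) (v : Fin m → SF 𝔛 hX.1 M U'), y.1 ∈ Dop hX.1 f ∧
      (∀ i, v i ∈ p.B U') ∧ ∀ (W : (𝔛.X 0).Opens) (hW : W ≤ Dop hX.1 f) (t : SF 𝔛 hX.1 M W), t ∈ p.B W →
        ∀ x ∈ W, ∃ (W' : (𝔛.X 0).Opens) (e : W' ≤ W), x ∈ W' ∧ rsF M e t ∈ Submodule.span (O 𝔛 hX.1 W')
          (Set.range fun i => rsF M (e.trans (hW.trans (Dop_le hX.1 f))) (v i)) := fun y => by
    obtain ⟨A, hA, hyA, hAV, m, g, hg, hgen⟩ := p.fin y.1 y.2.2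
    obtain ⟨f, hyf, hf⟩ := exists_Dop hX hU' hyA y.2.1
    choose N u hu using fun i => extend_affine hX hM hL hT hU' f (rsF M hf (g i))
    choose P hP using fun i => exists_pow_mem_part hX hM hL hT p hU' f (u i) (by
      rw [hu i]
      exact Submodule.smul_mem _ _ (p.res_mem hf (hg i)))
    refine ⟨f, m, fun i => f ^ P i • u i, hyf, hP, fun W hW t ht x hx => ?_⟩
    obtain ⟨W', e, hxW', hmem⟩ := hgen W (hW.trans hf) t ht x hx
    refine ⟨W', e, hxW', (Submodule.span_le.2 ?_) hmem⟩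
    rintro _ ⟨i, rfl⟩
    show rsF M (e.trans (hW.trans hf)) (g i) ∈ Submodule.span _ _
    have hunit : IsUnit (resO 𝔛 hX.1 (Dop_le hX.1 f) f ^ (P i + N i)) :=
      (isUnit_resO_of_le hX (isAffineOpen_Dop hX.1 hU' f) f _ le_rfl).pow _
    rw [← rsF_rsF M hf (e.trans hW) (g i),
      eq_smul_of_unit hX hunit (x := rsF M hf (g i)) (y := rsF M (Dop_le hX.1 f) (f ^ P i • u i)) (by
        rw [rsF_pow_smul hX, hu i, pow_add, mul_smul]), rsF_smul hX, rsF_rsF]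
    exact Submodule.smul_mem _ _ (Submodule.subset_span ⟨i, rfl⟩)
  choose f m v hy hv hgen using hloc
  obtain ⟨S, hS⟩ := (isCompact_of_le_affine hX hU' inf_le_left).elim_finite_subcover
    (fun y : ↥(U' ⊓ p.V) => (Dop hX.1 (f y) : Set (𝔛.X 0))) (fun y => (Dop hX.1 (f y)).2)
    fun y hy' => Set.mem_iUnion.2 ⟨⟨y, hy'⟩, hy _⟩
  let ε := (Fintype.equivFin (Σ y : S, Fin (m y.1))).symm
  refine ⟨_, fun i => v (ε i).1.1 (ε i).2, fun i => hv _ _, fun W t ht x hx hxU hxV => ?_⟩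
  obtain ⟨y, hyS, hxy⟩ := Set.mem_iUnion₂.1 (hS (show x ∈ U' ⊓ p.V from ⟨hxU, hxV⟩))
  obtain ⟨W', e, hxW', hmem⟩ := hgen y (W ⊓ Dop hX.1 (f y)) inf_le_right _
    (p.res_mem inf_le_left ht) x ⟨hx, hxy⟩
  refine ⟨W', e.trans inf_le_left, (e.trans inf_le_right).trans (Dop_le hX.1 _), hxW', ?_⟩
  rw [rsF_rsF] at hmem
  refine Submodule.span_mono ?_ hmem
  rintro _ ⟨i, rfl⟩
  exact ⟨ε.symm ⟨⟨y, hyS⟩, i⟩, congrArg (fun z : Σ y : S, Fin (m y.1) => rsF M _ (v z.1.1 z.2)) (ε.apply_symm_apply _)⟩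

theorem exists_step (p : Part hX M) {U' : (𝔛.X 0).Opens} (hU' : IsAffineOpen U') :
    ∃ q : Part hX M, p.Rel hX q ∧ U' ≤ q.V := by
  obtain ⟨n, g, hg, hgen⟩ := exists_gens_part hX hM hL hT p hU'
  have heq : ∀ W, W ≤ p.V → p.B W ≤ p.B W ⊓ spanIn hX U' g W := fun W hW t ht =>
    ⟨ht, (mem_spanIn hX).2 fun x hx hxU => by
      obtain ⟨W', e, e', hxW', h⟩ := hgen W t ht x hx hxU (hW hx)
      exact ⟨W', e, e', hxW', h⟩⟩
  refine ⟨{ V := p.V ⊔ U', B := fun W => p.B W ⊓ spanIn hX U' g W,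
            res_mem := fun e _ hs => ⟨p.res_mem e hs.1, spanIn_res hX g e hs.2⟩,
            loc := fun {W} s H => ⟨p.loc s fun x hx hxV => ?_, spanIn_loc hX g s fun x hx hxU => ?_⟩,
            fin := fun y hy => ?_ }, ⟨le_sup_left, fun _ => inf_le_left, heq⟩, le_sup_right⟩
  · obtain ⟨W', e, hxW', hs⟩ := H x hx (Or.inl hxV)
    exact ⟨W', e, hxW', hs.1⟩
  · obtain ⟨W', e, hxW', hs⟩ := H x hx (Or.inr hxU)
    exact ⟨W', e, hxW', hs.2⟩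
  · rcases hy with hy | hy
    · obtain ⟨A, hA, hyA, hAV, m, g', hg', hgen'⟩ := p.fin y hy
      exact ⟨A, hA, hyA, hAV.trans le_sup_left, m, g', fun i => heq A hAV (hg' i),
        fun W hW t ht => hgen' W hW t ht.1⟩
    · exact ⟨U', hU', hy, le_sup_right, n, g, fun i => ⟨hg i, self_mem_spanIn hX g i⟩, fun W hW t ht x hx => by
        obtain ⟨V, hV, _, hxV, hmem⟩ := (mem_spanIn hX).1 ht.2 x hx (hW hx)
        exact ⟨V, hV, hxV, hmem⟩⟩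

omit hM hL hT in
/-- The presheaf of a part. -/
def Part.pre (p : Part hX M) : M.val.Submodule where
  obj W := p.B W.unop
  map f _ hs := p.res_mem (leOfHom f.unop) hs

omit hM hL hT in
theorem Part.isSheaf_pre (p : Part hX M) :
    Presheaf.IsSheaf (Opens.grothendieckTopology (𝔛.X 0)) (p.pre hX).toPresheafOfModules.presheaf := by
  rw [Presheaf.isSheaf_iff_isSheaf_forget _ _ (CategoryTheory.forget AddCommGrpCat.{u}),
    isSheaf_iff_isSheaf_of_type]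
  intro E R hR x hx
  let y : Presieve.FamilyOfElements (M.val.presheaf ⋙ CategoryTheory.forget _) R.arrows :=
    fun V f hf => Subtype.val (x f hf)
  have hy : y.Compatible := fun V₁ V₂ W g₁ g₂ f₁ f₂ h₁ h₂ e => congrArg Subtype.val (hx g₁ g₂ h₁ h₂ e)
  obtain ⟨s, hs, huniq⟩ := (isSheaf_iff_isSheaf_of_type _ _).1
    ((Presheaf.isSheaf_iff_isSheaf_forget _ _ (CategoryTheory.forget AddCommGrpCat.{u})).1 M.isSheaf) R hR y hy
  have hmem : s ∈ p.B E := p.loc (s : SF 𝔛 hX.1 M E) fun z hz _ => by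
    obtain ⟨W, f, hf, hzW⟩ := hR z hz
    refine ⟨W, leOfHom f, hzW, ?_⟩
    have hs' : rsF M (leOfHom f) s = (x f hf).1 := hs f hf
    rw [hs']
    exact (x f hf).2
  exact ⟨⟨s, hmem⟩, fun V f hf => Subtype.ext (hs f hf),
    fun t ht => Subtype.ext (huniq t.1 fun V f hf => congrArg Subtype.val (ht f hf))⟩

omit hM hL hT in
/-- The submodule of a part. -/
def Part.sub (p : Part hX M) : FSch.ModF 𝔛 hX.1 := ⟨(p.pre hX).toPresheafOfModules, p.isSheaf_pre hX⟩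

omit hM hL hT in
/-- Its inclusion. -/
def Part.incl (p : Part hX M) : p.sub hX ⟶ M := ⟨(p.pre hX).ι⟩

omit hM hL hT in
instance (p : Part hX M) : Mono (p.incl hX) :=
  (SheafOfModules.forget _).mono_of_mono_map (inferInstanceAs (Mono (p.pre hX).ι))

omit hL hT in
theorem Part.isCohF_sub (p : Part hX M) (htop : p.V = ⊤) : FSch.IsCohF 𝔛 hX.1 (p.sub hX) := by
  refine isCohF_of_qr_finGen hX (hM.of_mono (p.incl hX)) fun x => ?_
  obtain ⟨A, _, hxA, _, m, g, hg, hgen⟩ := p.fin x (htop ▸ Opens.mem_top x)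
  refine ⟨A, hxA, m, fun i => ⟨g i, hg i⟩, fun W hW y hy z => ?_⟩
  obtain ⟨W', e, hyW', hmem⟩ := hgen W hW (apF (p.incl hX) W z) z.2 y hy
  obtain ⟨c, hc⟩ := (Submodule.mem_span_range_iff_exists_fun _).1 hmem
  refine ⟨W', e, hyW', c, injective_apF (p.incl hX) W' ?_⟩
  refine (apF_rsF _ e z).trans (hc.symm.trans ?_)
  rw [map_sum]
  refine Finset.sum_congr rfl fun i _ => ?_
  rw [map_smul, apF_rsF]
  rfl

/-- Quasi-coherent torsion modules are covered by coherent modules. -/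
theorem cov_of_tors : Cov hX M := fun W s x hx => by
  obtain ⟨U, hU, hxU, hle⟩ := Opens.isBasis_iff_nbhd.1 (𝔛.X 0).isBasis_affineOpens hx
  let p₀ := Part.start hX hU fun _ : Fin 1 => rsF M hle s
  let T := {q : Part hX M // p₀.Rel hX q}
  haveI : Nonempty T := ⟨⟨p₀, Part.Rel.refl hX p₀⟩⟩
  obtain ⟨m, hm⟩ := exists_maximal_of_nonempty_chains_bounded (r := fun a b : T => a.1.Rel hX b.1)
    (fun c hc hne => by
      obtain ⟨ub, hub⟩ := exists_ub hX (Subtype.val '' c) (by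
        rintro _ ⟨a, ha, rfl⟩ _ ⟨b, hb, rfl⟩ hab
        exact hc ha hb fun e => hab (congrArg Subtype.val e))
      obtain ⟨a, ha⟩ := hne
      exact ⟨⟨ub, a.2.trans hX (hub _ ⟨a, ha, rfl⟩)⟩, fun b hb => hub _ ⟨b, hb, rfl⟩⟩)
    (fun h₁ h₂ => h₁.trans hX h₂)
  have htop : m.1.V = ⊤ := eq_top_iff.2 fun y _ => by
    obtain ⟨U', hU', hyU', -⟩ := Opens.isBasis_iff_nbhd.1 (𝔛.X 0).isBasis_affineOpens (Opens.mem_top y)
    obtain ⟨q, hq, hq'⟩ := exists_step hX hM hL hT m.1 hU'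
    exact (hm ⟨q, m.2.trans hX hq⟩ hq).1 (hq' hyU')
  exact ⟨m.1.sub hX, m.1.isCohF_sub hX hM htop, m.1.incl hX, U, hle, hxU,
    ⟨rsF M hle s, m.2.2.2 U le_rfl (self_mem_spanIn hX (fun _ : Fin 1 => rsF M hle s) 0)⟩, rfl⟩

end Groth.L28.QCT
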