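import Groth.Agent.L10.DerivedAdj
import Mathlib.Algebra.Homology.ShortComplex.PreservesHomology

/-!
# Derived adjunctions of exact adjoint functors
-/

universe w w' v v' u u'

open CategoryTheory CategoryTheory.Limits CategoryTheory.Pretriangulated

set_option autoImplicit false
set_option linter.style.haveILetI false
set_option backward.defeqAttrib.useBackward true
set_option backward.isDefEq.respectTransparency false

noncomputable section

namespace Groth.L28.ExactAdj

variable {A : Type u} [Category.{v} A] [Abelian A] {B : Type u'} [Category.{v'} B] [Abelian B]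
  {R : A ⥤ B} {L : B ⥤ A} (adj : L ⊣ R) [R.Additive] [L.Additive]
  [PreservesFiniteLimits L] [PreservesFiniteColimits L] [PreservesFiniteLimits R] [PreservesFiniteColimits R]
  [HasDerivedCategory.{w} A] [HasDerivedCategory.{w'} B]

local notation "up" => ComplexShape.up ℤ

variable (RF : DerivedCategory A ⥤ DerivedCategory B)
  (α : R.mapHomotopyCategory up ⋙ DerivedCategory.Qh ⟶ DerivedCategory.Qh ⋙ RF)
  [RF.IsRightDerivedFunctor α (HomotopyCategory.quasiIso A up)]

omit [R.Additive] [PreservesFiniteLimits R] [PreservesFiniteColimits R] in
/-- Exact functors commute with cohomology. -/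
theorem nonempty_homology_map (F : A ⥤ B) [F.Additive] [PreservesFiniteLimits F] [PreservesFiniteColimits F]
    (X : DerivedCategory A) (i : ℤ) :
    Nonempty ((DerivedCategory.homologyFunctor B i).obj (F.mapDerivedCategory.obj X) ≅
      F.obj ((DerivedCategory.homologyFunctor A i).obj X)) :=
  let K := DerivedCategory.Q.objPreimage X
  let e := DerivedCategory.Q.objObjPreimageIso X
  ⟨(DerivedCategory.homologyFunctor B i).mapIso (F.mapDerivedCategory.mapIso e.symm ≪≫
      F.mapDerivedCategoryFactors.app K) ≪≫ (DerivedCategory.homologyFunctorFactors B i).app _ ≪≫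
    (K.sc i).mapHomologyIso F ≪≫ F.mapIso (((DerivedCategory.homologyFunctorFactors A i).app K).symm ≪≫
      (DerivedCategory.homologyFunctor A i).mapIso e)⟩

include α in
/-- The derived functor of an exact functor is computed termwise. -/
theorem nonempty_iso_mapDerived : Nonempty (RF ≅ R.mapDerivedCategory) := by
  haveI : R.mapDerivedCategory.IsRightDerivedFunctor R.mapDerivedCategoryFactorsh.inv (HomotopyCategory.quasiIso A up) :=
    Functor.isRightDerivedFunctor_of_inverts _ _ R.mapDerivedCategoryFactorsh
  exact ⟨Functor.rightDerivedUnique RF R.mapDerivedCategory α R.mapDerivedCategoryFactorsh.inv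
    (HomotopyCategory.quasiIso A up)⟩

include α in
theorem nonempty_homology_derived (X : DerivedCategory A) (i : ℤ) :
    Nonempty ((DerivedCategory.homologyFunctor B i).obj (RF.obj X) ≅
      R.obj ((DerivedCategory.homologyFunctor A i).obj X)) := by
  obtain ⟨e⟩ := nonempty_iso_mapDerived RF α
  obtain ⟨e'⟩ := nonempty_homology_map R X i
  exact ⟨(DerivedCategory.homologyFunctor B i).mapIso (e.app X) ≪≫ e'⟩

include α in
theorem isIso_unitMap (X : HomotopyCategory A up) : IsIso (α.app X) := by
  have h : (HomotopyCategory.quasiIso A up).IsInvertedBy (R.mapHomotopyCategory up ⋙ DerivedCategory.Qh) :=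
    (MorphismProperty.IsInvertedBy.iff_of_iso _ R.mapDerivedCategoryFactorsh).1 fun X Y s hs => by
      haveI := Localization.inverts DerivedCategory.Qh (HomotopyCategory.quasiIso A up) s hs
      exact inferInstanceAs (IsIso (R.mapDerivedCategory.map (DerivedCategory.Qh.map s)))
  haveI := Functor.isIso_of_isRightDerivedFunctor_of_inverts RF α h
  infer_instance

variable [Groth.L10.KInjDerived.EnoughKInjectives A]

/-- The counit is an isomorphism on objects on whose cohomology it is. -/
theorem isIso_counit (X : DerivedCategory A)
    (hX : ∀ i, IsIso (adj.counit.app ((DerivedCategory.homologyFunctor A i).obj X))) :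
    IsIso ((Groth.L10.DerivedAdj.derived adj RF α).counit.app X) := by
  let K := DerivedCategory.Q.objPreimage X
  let e : DerivedCategory.Qh.obj ((HomotopyCategory.quotient A up).obj K) ≅ X :=
    ((DerivedCategory.quotientCompQhIso A).app K) ≪≫ DerivedCategory.Q.objObjPreimageIso X
  refine (NatTrans.isIso_app_iff_of_iso _ e).1 ?_
  let I := (HomotopyCategory.quotient A up).obj K
  change IsIso ((Groth.L10.DerivedAdj.derived adj RF α).counit.app (DerivedCategory.Qh.obj I))
  haveI := isIso_unitMap RF α I
  haveI hc : IsIso (DerivedCategory.Qh.map ((Groth.L10.DerivedAdj.homotopyAdj adj).counit.app I)) := by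
    let f : (L.mapHomologicalComplex up).obj ((R.mapHomologicalComplex up).obj K) ⟶ K :=
      { f := fun i => adj.counit.app (K.X i), comm' := fun i j _ => (adj.counit.naturality _).symm }
    haveI : PreservesFiniteLimits (R ⋙ L) := comp_preservesFiniteLimits R L
    haveI : PreservesFiniteColimits (R ⋙ L) := comp_preservesFiniteColimits R L
    have hq : HomologicalComplex.quasiIso A up f := (HomologicalComplex.mem_quasiIso_iff f).2 ⟨fun i => by
      rw [quasiIsoAt_iff_isIso_homologyMap]
      haveI : IsIso (adj.counit.app ((K.sc i).homology)) :=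
        (NatTrans.isIso_app_iff_of_iso adj.counit ((DerivedCategory.homologyFunctor A i).mapIso
          (DerivedCategory.Q.objObjPreimageIso X).symm ≪≫ (DerivedCategory.homologyFunctorFactors A i).app K)).1 (hX i)
      have h2 : ShortComplex.homologyMap ((K.sc i).mapNatTrans adj.counit) =
          ((K.sc i).mapHomologyIso (R ⋙ L)).hom ≫ adj.counit.app ((K.sc i).homology) ≫
            ((K.sc i).mapHomologyIso (𝟭 A)).inv := by
        rw [NatTrans.app_homology adj.counit (K.sc i)]
        simp
      show IsIso (ShortComplex.homologyMap ((K.sc i).mapNatTrans adj.counit))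
      rw [h2]
      infer_instance⟩
    haveI := Localization.inverts DerivedCategory.Q (HomologicalComplex.quasiIso A up) f hq
    exact ((MorphismProperty.isomorphisms _).arrow_mk_iso_iff
      (Arrow.isoMk ((DerivedCategory.quotientCompQhIso A).app _) ((DerivedCategory.quotientCompQhIso A).app K)
        ((DerivedCategory.quotientCompQhIso A).hom.naturality f).symm)).2 this
  exact IsIso.of_isIso_fac_left ((Groth.L10.DerivedAdj.homotopyAdj adj).derivedε_fac_app
    (HomotopyCategory.quasiIso A up) L.mapDerivedCategoryFactorsh.hom α I)

include α in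
/-- Maps from such objects are those between the images. -/
theorem bijective_map (X Y : DerivedCategory A)
    (hX : ∀ i, IsIso (adj.counit.app ((DerivedCategory.homologyFunctor A i).obj X))) :
    Function.Bijective fun φ : X ⟶ Y => RF.map φ := by
  let adj' := Groth.L10.DerivedAdj.derived adj RF α
  haveI : IsIso (adj'.counit.app X) := isIso_counit adj RF α X hX
  have h : (fun φ : X ⟶ Y => RF.map φ) = fun φ => adj'.homEquiv _ _ (adj'.counit.app X ≫ φ) := funext fun φ => by
    rw [Adjunction.homEquiv_unit, Functor.map_comp, ← Category.assoc, adj'.right_triangle_components, Category.id_comp]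
  rw [h]
  exact (adj'.homEquiv _ _).bijective.comp (asIso (adj'.counit.app X)).homFromEquiv.symm.bijective

end Groth.L28.ExactAdj
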