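import Groth.Agent.L28.FTors.KapTors

/-!
# Full faithfulness of the direct image from a completion on torsion modules
-/

set_option autoImplicit false
set_option linter.style.haveILetI false
set_option linter.unusedSectionVars false
set_option backward.isDefEq.respectTransparency false
set_option backward.isDefEq.respectTransparency.types false

universe u

open CategoryTheory CategoryTheory.Limits AlgebraicGeometry TopologicalSpace Opposite

noncomputable section

namespace Groth.L28.QCT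

open Groth.L17.FSheaf Groth.L09.IndCoh
open Groth.L18.Frame (ro)

variable {X : Scheme.{u}} {𝔛 : FSch.Sys.{u}} (p : ∀ k, 𝔛.X k ⟶ X) [IsClosedImmersion (p 0)]

/-- The largest open of the scheme inducing an open of the completion. -/
def up (V : (𝔛.X 0).Opens) : X.Opens :=
  ⟨(p 0 '' (V : Set (𝔛.X 0))ᶜ)ᶜ, ((p 0).isClosedEmbedding.isClosedMap _ V.2.isClosed_compl).isOpen_compl⟩

theorem mem_up {V : (𝔛.X 0).Opens} {y : X} : y ∈ up p V ↔ ∀ z, p 0 z = y → z ∈ V := by
  refine ⟨fun h z hz => ?_, fun h hy => ?_⟩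
  · by_contra hzV
    exact h ⟨z, hzV, hz⟩
  · obtain ⟨z, hzV, hz⟩ := hy
    exact hzV (h z hz)

@[simp] theorem pU_up (V : (𝔛.X 0).Opens) : pU 𝔛 p (up p V) = V := by
  ext z
  exact ⟨fun h => (mem_up p).1 h z rfl,
    fun h => (mem_up p).2 fun t ht => (p 0).isClosedEmbedding.injective ht ▸ h⟩

theorem up_mono {V V' : (𝔛.X 0).Opens} (e : V ≤ V') : up p V ≤ up p V' :=
  fun _ hy => (mem_up p).2 fun z hz => e ((mem_up p).1 hy z hz)

theorem le_up_iff {W : X.Opens} {V : (𝔛.X 0).Opens} : W ≤ up p V ↔ pU 𝔛 p W ≤ V :=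
  ⟨fun h => (pU_mono p h).trans (pU_up p V).le, fun h _ hy => (mem_up p).2 fun z hz => h (hz ▸ hy : p 0 z ∈ W)⟩

theorem le_up_pU (W : X.Opens) : W ≤ up p (pU 𝔛 p W) := (le_up_iff p).2 le_rfl

variable (hX : 𝔛.IsLocNoethFormal) (hp : ∀ k, 𝔛.ι k ≫ p (k + 1) = p k)
  {𝓘 : X.IdealSheafData} (hcut : CutBy 𝔛 p 𝓘) {M M' : FSch.ModF 𝔛 hX.1}

/-- A section on an open as a section of the direct image on the largest open inducing it. -/
abbrev ofK {V : (𝔛.X 0).Opens} (s : SF 𝔛 hX.1 M V) : _root_.ModSite.sect ((κ hX p hp).push.obj M) (up p V) :=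
  (rsF M (pU_up p V).le s : SF 𝔛 hX.1 M (pU 𝔛 p (up p V)))

variable (φ : (κ hX p hp).push.obj M ⟶ (κ hX p hp).push.obj M')

/-- The components of the map underlying a map of direct images. -/
def descFun (V : (𝔛.X 0).Opens) (s : SF 𝔛 hX.1 M V) : SF 𝔛 hX.1 M' V :=
  rsF M' (pU_up p V).ge (toK hX p hp ((φ.val.app (op (up p V))).hom (ofK p hX hp s)))

theorem rsF_toK_app {V W : X.Opens} (e : V ≤ W) (x : _root_.ModSite.sect ((κ hX p hp).push.obj M) W) :
    rsF M' (pU_mono p e) (toK hX p hp ((φ.val.app (op W)).hom x)) =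
      toK hX p hp ((φ.val.app (op V)).hom (rsF M (pU_mono p e) (toK hX p hp x))) :=
  _root_.FTors.res_hom _ φ (homOfLE e) x

theorem descFun_pU (W : X.Opens) (s : SF 𝔛 hX.1 M (pU 𝔛 p W)) :
    descFun p hX hp φ (pU 𝔛 p W) s =
      toK hX p hp ((φ.val.app (op W)).hom (show _root_.ModSite.sect ((κ hX p hp).push.obj M) W from s)) := by
  refine (rsF_toK_app p hX hp φ (le_up_pU p W) _).trans ?_
  congr 2
  show rsF M _ (rsF M _ s) = s
  rw [rsF_rsF]
  exact res_self M _ s

theorem descFun_rsF {V V' : (𝔛.X 0).Opens} (e : V' ≤ V) (s : SF 𝔛 hX.1 M V) :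
    rsF M' e (descFun p hX hp φ V s) = descFun p hX hp φ V' (rsF M e s) := by
  have h1 := congrArg (rsF M' (pU_up p V').ge) (rsF_toK_app p hX hp φ (up_mono p e) (ofK p hX hp s))
  rw [rsF_rsF] at h1
  unfold descFun ofK
  rw [rsF_rsF]
  refine h1.trans ?_
  congr 3
  show rsF M _ (rsF M _ s) = rsF M _ (rsF M e s)
  rw [rsF_rsF, rsF_rsF]

theorem descFun_add (V : (𝔛.X 0).Opens) (s t : SF 𝔛 hX.1 M V) :
    descFun p hX hp φ V (s + t) = descFun p hX hp φ V s + descFun p hX hp φ V t := by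
  unfold descFun ofK
  rw [show rsF M (pU_up p V).le (s + t) = rsF M (pU_up p V).le s + rsF M (pU_up p V).le t from
    map_add (M.val.map (homOfLE (pU_up p V).le).op).hom s t]
  refine Eq.trans (congrArg (rsF M' _) (map_add (φ.val.app (op (up p V))).hom _ _)) ?_
  exact map_add (M'.val.map (homOfLE (pU_up p V).ge).op).hom _ _

include hcut in
theorem descFun_smul (hM : _root_.FTors.IsTorsF 𝔛 hX.1 M) (V : (𝔛.X 0).Opens) (a : O 𝔛 hX.1 V)
    (s : SF 𝔛 hX.1 M V) : descFun p hX hp φ V (a • s) = a • descFun p hX hp φ V s := by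
  refine eq_of_locally M' _ _ fun z hz => ?_
  obtain ⟨V₁, e₁, hzV₁, k, hk⟩ := tors_iff.1 (hM V s) z hz
  obtain ⟨_, ⟨W, hW, rfl⟩, hzW, hle⟩ :=
    X.isBasis_affineOpens.exists_subset_of_mem_open ((mem_up p).2 fun t ht => (p 0).isClosedEmbedding.injective ht ▸ hzV₁)
      (up p V₁).2
  have eW : pU 𝔛 p W ≤ V₁ := (le_up_iff p).1 hle
  refine ⟨pU 𝔛 p W, eW.trans e₁, hzW, ?_⟩
  show rsF M' _ _ = rsF M' _ _
  have hkW : Killed M k (rsF M (eW.trans e₁) s) := by
    have := hk.rs eW
    rwa [rsF_rsF] at this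
  rw [rsF_smul hX, descFun_rsF, descFun_rsF, rsF_smul hX]
  generalize rsF M (eW.trans e₁) s = t at hkW
  generalize resO 𝔛 hX.1 (eW.trans e₁) a = b
  obtain ⟨a', ha'⟩ := exists_pR_sp hX p hp hcut hW k b
  have hb : sp hX p hp W a' - b ∈ J 𝔛 hX.1 (pU 𝔛 p W) ^ (k + 1) := by
    rw [← (O_spec 𝔛 hX (isAffineOpen_pU 𝔛 p hW)).2.2 k, RingHom.mem_ker, map_sub, ha', sub_self]
  have hφ : Killed M' k (descFun p hX hp φ (pU 𝔛 p W) t) := by
    rw [descFun_pU]
    exact killed_of_killedBy hX p hp hcut φ hW (killedBy_push hX p hp hcut hkW)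
  have h1 := sub_eq_zero.1 ((sub_smul _ _ _).symm.trans (smul_eq_zero_of_mem hX (isAffineOpen_pU 𝔛 p hW) hkW hb))
  have h2 := sub_eq_zero.1 ((sub_smul _ _ _).symm.trans (smul_eq_zero_of_mem hX (isAffineOpen_pU 𝔛 p hW) hφ hb))
  rw [← h1, ← h2, descFun_pU, descFun_pU]
  exact congrArg (toK hX p hp) ((φ.val.app (op W)).hom.map_smul a'
    (show _root_.ModSite.sect ((κ hX p hp).push.obj M) W from t))

include hcut in
/-- Maps of direct images of torsion modules come from maps. -/
theorem bijective_push_map (hM : _root_.FTors.IsTorsF 𝔛 hX.1 M) :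
    Function.Bijective fun g : M ⟶ M' => (κ hX p hp).push.map g := by
  refine ⟨fun g g' hgg => ?_, fun φ => ?_⟩
  · refine SheafOfModules.hom_ext (PresheafOfModules.hom_ext fun V => ModuleCat.hom_ext (LinearMap.ext fun s => ?_))
    have h0 := congrArg (fun t : (κ hX p hp).push.obj M ⟶ (κ hX p hp).push.obj M' =>
      (t.val.app (op (up p V.unop))).hom (ofK p hX hp (show SF 𝔛 hX.1 M V.unop from s))) hgg
    have h1 : apF g (pU 𝔛 p (up p V.unop)) (rsF M (pU_up p V.unop).le s) =
        apF g' (pU 𝔛 p (up p V.unop)) (rsF M (pU_up p V.unop).le s) := h0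
    have h2 := congrArg (rsF M' (pU_up p V.unop).ge) h1
    rw [← apF_rsF, ← apF_rsF, rsF_rsF, show rsF M le_rfl (show SF 𝔛 hX.1 M V.unop from s) = s from res_self M _ _]
      at h2
    exact h2
  · refine ⟨⟨PresheafOfModules.homMk
        { app := fun V => AddCommGrpCat.ofHom
            { toFun := fun s => descFun p hX hp φ V.unop s
              map_zero' := add_eq_left.1 ((descFun_add p hX hp φ V.unop 0 0).symm.trans (by rw [add_zero]))
              map_add' := descFun_add p hX hp φ V.unop }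
          naturality := fun V V' i => by
            ext s
            exact (descFun_rsF p hX hp φ (leOfHom i.unop) s).symm }
        (fun V a s => descFun_smul p hX hp hcut φ hM V.unop a s)⟩, ?_⟩
    refine SheafOfModules.hom_ext (PresheafOfModules.hom_ext fun W => ModuleCat.hom_ext (LinearMap.ext fun s => ?_))
    exact descFun_pU p hX hp φ W.unop s

include hcut in
/-- The counit is an isomorphism on torsion modules. -/
theorem isIso_counit_tors (hM : _root_.FTors.IsTorsF 𝔛 hX.1 M) : IsIso ((κ hX p hp).adj.counit.app M) := by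
  refine isIso_of_coyoneda_map_bijective _ fun T => ?_
  have h : (fun g : M ⟶ T => (κ hX p hp).adj.counit.app M ≫ g) =
      fun g => ((κ hX p hp).adj.homEquiv _ _).symm ((κ hX p hp).push.map g) := funext fun g => by
    rw [Adjunction.homEquiv_counit]
    exact ((κ hX p hp).adj.counit.naturality g).symm
  show Function.Bijective fun g : M ⟶ T => (κ hX p hp).adj.counit.app M ≫ g
  rw [h]
  exact ((κ hX p hp).adj.homEquiv _ _).symm.bijective.comp (bijective_push_map p hX hp hcut hM)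

end Groth.L28.QCT
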