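import Groth.Agent.L28.FTors.KapPush
import Groth.Agent.L28.FTors.KapFull
import Groth.Agent.L28.FTors.ExactAdj
import Groth.Agent.L10.ModClosedPush
import Groth.Agent.S9098
import Groth.Prelude.Def_SiteCmp

/-!
# The completion morphism on derived categories
-/

set_option autoImplicit false
set_option linter.style.haveILetI false
set_option linter.unusedSectionVars false
set_option backward.isDefEq.respectTransparency false
set_option backward.isDefEq.respectTransparency.types false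

universe u

open CategoryTheory CategoryTheory.Limits AlgebraicGeometry TopologicalSpace Opposite

noncomputable section

attribute [local instance] HasDerivedCategory.standard

namespace Groth.L28.QCT

open Groth.L17.FSheaf Groth.L09.IndCoh

variable {X : Scheme.{u}} {𝔛 : FSch.Sys.{u}} (hX : 𝔛.IsLocNoethFormal) (p : ∀ k, 𝔛.X k ⟶ X)
  (hp : ∀ k, 𝔛.ι k ≫ p (k + 1) = p k)

theorem preservesFiniteLimits_push : PreservesFiniteLimits (κ hX p hp).push := by
  haveI : PreservesLimitsOfSize.{0, 0} (κ hX p hp).push := (κ hX p hp).adj.rightAdjoint_preservesLimits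
  exact PreservesLimitsOfSize.preservesFiniteLimits _

theorem preservesFiniteColimits_pull : PreservesFiniteColimits (κ hX p hp).pull := by
  haveI : PreservesColimitsOfSize.{0, 0} (κ hX p hp).pull := (κ hX p hp).adj.leftAdjoint_preservesColimits
  exact PreservesColimitsOfSize.preservesFiniteColimits _

variable [IsClosedImmersion (p 0)]

theorem preservesFiniteColimits_push : PreservesFiniteColimits (κ hX p hp).push :=
  Groth.L10.ModClosedPush.preservesFiniteColimits_push (i := (p 0).base) (κ hX p hp).sharpR (p 0).isClosedEmbedding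

theorem nonempty_HMod_push [SiteCmp.HasRpushD (κ hX p hp)] (G : DerivedCategory (FSch.ModF 𝔛 hX.1)) (i : ℤ) :
    Nonempty (SiteCmp.HMod ((SiteCmp.RpushD (κ hX p hp)).obj G) i ≅ (κ hX p hp).push.obj (SiteCmp.HMod G i)) := by
  haveI := preservesFiniteLimits_push hX p hp
  haveI := preservesFiniteColimits_push hX p hp
  exact Groth.L28.ExactAdj.nonempty_homology_derived (R := (κ hX p hp).push) _
    ((SiteCmp.pushKh (κ hX p hp)).totalRightDerivedUnit DerivedCategory.Qh
      (HomotopyCategory.quasiIso (FSch.ModF 𝔛 hX.1) (ComplexShape.up ℤ))) G i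

theorem nonempty_HMod_pull [PreservesFiniteLimits (κ hX p hp).pull] (F : DerivedCategory (_root_.ModSite.Mod X.sheaf))
    (i : ℤ) : Nonempty (SiteCmp.HMod ((SiteCmp.pullD (κ hX p hp)).obj F) i ≅ (κ hX p hp).pull.obj (SiteCmp.HMod F i)) := by
  haveI := preservesFiniteColimits_pull hX p hp
  exact Groth.L28.ExactAdj.nonempty_homology_map (κ hX p hp).pull F i

theorem isTorsF_of_iso {M M' : FSch.ModF 𝔛 hX.1} (e : M ≅ M') (h : _root_.FTors.IsTorsF 𝔛 hX.1 M') :
    _root_.FTors.IsTorsF 𝔛 hX.1 M := isTorsF_of_mono hX e.hom h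

theorem isTorsZp_of_iso (𝓘 : X.IdealSheafData) {N N' : _root_.ModSite.Mod X.sheaf} (e : N ≅ N')
    (h : _root_.FTors.IsTorsZp X 𝓘 N') : _root_.FTors.IsTorsZp X 𝓘 N := fun U s => by
  have h1 := _root_.FTors.IsTorsSect.hom e.inv (h U ((e.hom.val.app (op U)).hom s))
  rwa [show (e.inv.val.app (op U)).hom ((e.hom.val.app (op U)).hom s) = s from
    LinearMap.congr_fun (congrArg (fun f : N ⟶ N => (f.val.app (op U)).hom) e.hom_inv_id) s] at h1

variable {𝓘 : X.IdealSheafData} (hcut : CutBy 𝔛 p 𝓘)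

include hcut in
theorem pullD_props [PreservesFiniteLimits (κ hX p hp).pull] (F : DerivedCategory (_root_.ModSite.Mod X.sheaf))
    (hF : _root_.FTors.IsDTorsZp X 𝓘 F) :
    _root_.FTors.IsDTorsF 𝔛 hX.1 ((SiteCmp.pullD (κ hX p hp)).obj F) ∧
      ((∀ i : ℤ, SheafOfModules.IsQuasicoherent.{u} (SiteCmp.HMod F i)) →
        _root_.FTors.IsDQCT 𝔛 hX.1 ((SiteCmp.pullD (κ hX p hp)).obj F)) := by
  have h1 : ∀ i, _root_.FTors.IsTorsF 𝔛 hX.1 (SiteCmp.HMod ((SiteCmp.pullD (κ hX p hp)).obj F) i) := fun i => by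
    obtain ⟨e⟩ := nonempty_HMod_pull hX p hp F i
    exact isTorsF_of_iso hX e (isTorsF_pull hX p hp hcut (hF i))
  refine ⟨h1, fun hq i => ⟨h1 i, ?_⟩⟩
  obtain ⟨e⟩ := nonempty_HMod_pull hX p hp F i
  haveI : SheafOfModules.IsQuasicoherent (R := _root_.ModSite.ringSh X.sheaf) (SiteCmp.HMod F i) := hq i
  exact (SheafOfModules.isQuasicoherent (_root_.ModSite.ringSh (𝔛.Osh hX.1))).prop_of_iso e.symm
    (Groth.Agent.S9098.result (κ hX p hp) (SiteCmp.HMod F i))

include hcut in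
theorem RpushD_props [SiteCmp.HasRpushD (κ hX p hp)] (G : DerivedCategory (FSch.ModF 𝔛 hX.1)) :
    (_root_.FTors.IsDTorsF 𝔛 hX.1 G → _root_.FTors.IsDTorsZp X 𝓘 ((SiteCmp.RpushD (κ hX p hp)).obj G)) ∧
    (_root_.FTors.IsDQCT 𝔛 hX.1 G →
      _root_.FTors.IsDTorsZp X 𝓘 ((SiteCmp.RpushD (κ hX p hp)).obj G) ∧
        ∀ i : ℤ, SheafOfModules.IsQuasicoherent.{u} (SiteCmp.HMod ((SiteCmp.RpushD (κ hX p hp)).obj G) i)) ∧
    (_root_.FTors.IsDQCT 𝔛 hX.1 G → (∀ i : ℤ, FSch.IsCohF 𝔛 hX.1 (SiteCmp.HMod G i)) →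
      ∀ i : ℤ, Coh.IsCoh (X := X) (SiteCmp.HMod ((SiteCmp.RpushD (κ hX p hp)).obj G) i)) := by
  have h1 : ∀ (G : DerivedCategory (FSch.ModF 𝔛 hX.1)), _root_.FTors.IsDTorsF 𝔛 hX.1 G →
      _root_.FTors.IsDTorsZp X 𝓘 ((SiteCmp.RpushD (κ hX p hp)).obj G) := fun G hG i => by
    obtain ⟨e⟩ := nonempty_HMod_push hX p hp G i
    exact isTorsZp_of_iso 𝓘 e (isTorsZp_push hX p hp hcut (hG i))
  refine ⟨h1 G, fun hG => ⟨h1 G fun i => (hG i).1, fun i => ?_⟩, fun hG hc i => ?_⟩
  · obtain ⟨e⟩ := nonempty_HMod_push hX p hp G i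
    exact (SheafOfModules.isQuasicoherent X.ringCatSheaf).prop_of_iso e.symm (isQCoh_push_sch hX p hp (hG i))
  · obtain ⟨e⟩ := nonempty_HMod_push hX p hp G i
    have hP := isCoh_push_sch hX p hp hcut (hG i) (hc i)
    refine ⟨(SheafOfModules.isQuasicoherent X.ringCatSheaf).prop_of_iso e.symm hP.1,
      Groth.L00.Local.isFT_of_generators _ fun x => ?_⟩
    obtain ⟨U, σ, hxU, hσ⟩ := Groth.L00.Local.exists_generators_of_isFT _ hP.2 x
    exact ⟨U, σ.ofEpi ((Scheme.Modules.restrictFunctor U.ι).mapIso e.symm).hom, hxU, hσ⟩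

include hcut in
theorem bijective_RpushD [PreservesFiniteLimits (κ hX p hp).pull] [SiteCmp.HasRpushD (κ hX p hp)]
    (G H : DerivedCategory (FSch.ModF 𝔛 hX.1)) (hG : _root_.FTors.IsDTorsF 𝔛 hX.1 G) :
    Function.Bijective (fun φ : G ⟶ H => (SiteCmp.RpushD (κ hX p hp)).map φ) := by
  haveI := preservesFiniteLimits_push hX p hp
  haveI := preservesFiniteColimits_push hX p hp
  haveI := preservesFiniteColimits_pull hX p hp
  haveI : IsGrothendieckAbelian.{u} (FSch.ModF 𝔛 hX.1) := Groth.L10.shMod_isGrothendieckAbelian _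
  exact Groth.L28.ExactAdj.bijective_map (κ hX p hp).adj _
    ((SiteCmp.pushKh (κ hX p hp)).totalRightDerivedUnit DerivedCategory.Qh
      (HomotopyCategory.quasiIso (FSch.ModF 𝔛 hX.1) (ComplexShape.up ℤ))) G H
    fun i => isIso_counit_tors p hX hp hcut (hG i)

end Groth.L28.QCT
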