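import Groth.Agent.L28.FTors.KapFull

/-!
# Power torsion modules are direct images from the completion
-/

set_option autoImplicit false
set_option linter.style.haveILetI false
set_option linter.unusedSectionVars false
set_option backward.isDefEq.respectTransparency false
set_option backward.isDefEq.respectTransparency.types false

universe u

open CategoryTheory CategoryTheory.Limits AlgebraicGeometry TopologicalSpace Opposite

noncomputable section

namespace Groth.L28.QCT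

open Groth.L17.FSheaf Groth.L09.IndCoh
open Groth.L18.Frame (ro)

variable {X : Scheme.{u}} (N : _root_.ModSite.Mod X.sheaf)

/-- Sections of a module on the scheme. -/
abbrev SN (U : X.Opens) : Type u := _root_.ModSite.sect N U

/-- Restriction of sections of a module on the scheme. -/
abbrev rsN {U V : X.Opens} (e : V ≤ U) (s : SN N U) : SN N V := _root_.FTors.res N (homOfLE e) s

theorem rsN_rsN {U V W : X.Opens} (e : V ≤ U) (e' : W ≤ V) (s : SN N U) :
    rsN N e' (rsN N e s) = rsN N (e'.trans e) s := (_root_.FTors.res_comp N (homOfLE e) (homOfLE e') s).symm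

theorem rsN_self {U : X.Opens} (e : U ≤ U) (s : SN N U) : rsN N e s = s := _root_.FTors.res_id N s

theorem rsN_smul {U V : X.Opens} (e : V ≤ U) (a : Γ(X, U)) (s : SN N U) :
    rsN N e (a • s) = ro e a • rsN N e s := _root_.FTors.res_smul N (homOfLE e) a s

variable {N} (𝓘 : X.IdealSheafData)

/-- A section annihilated by a power of the ideal. -/
abbrev KB (n : ℕ) {U : X.Opens} (s : SN N U) : Prop :=
  _root_.FTors.KilledBy (_root_.FTors.powIdealFam X 𝓘) N n s

theorem KB.rs {n : ℕ} {U V : X.Opens} {s : SN N U} (hs : KB 𝓘 n s) (e : V ≤ U) : KB 𝓘 n (rsN N e s) :=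
  _root_.FTors.KilledBy.res (homOfLE e) hs

variable {𝔛 : FSch.Sys.{u}} (hX : 𝔛.IsLocNoethFormal) (p : ∀ k, 𝔛.X k ⟶ X)
  (hp : ∀ k, 𝔛.ι k ≫ p (k + 1) = p k) [IsClosedImmersion (p 0)] {𝓘} (hcut : CutBy 𝔛 p 𝓘)

include hcut in
theorem smul_congr_sp {W : X.Opens} (hW : IsAffineOpen W) {k : ℕ} {s : SN N W} (hs : KB 𝓘 (k + 1) s)
    {a a' : Γ(X, W)}
    (h : pR 𝔛 hX.1 k (pU 𝔛 p W) (sp hX p hp W a) = pR 𝔛 hX.1 k (pU 𝔛 p W) (sp hX p hp W a')) : a • s = a' • s := by
  have h0 := hs (𝟙 W) (a - a') (mem_powIdealFam_of_mem hW ((pR_sp_eq_zero_iff hX p hp hcut hW k _).1 (by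
    rw [map_sub, map_sub, h, sub_self])))
  rw [_root_.FTors.res_id] at h0
  exact sub_eq_zero.1 ((sub_smul a a' s).symm.trans h0)

theorem pR_congr_le {U : (𝔛.X 0).Opens} (hU : IsAffineOpen U) {k k' : ℕ} (hk : k ≤ k') {x y : O 𝔛 hX.1 U}
    (h : pR 𝔛 hX.1 k' U x = pR 𝔛 hX.1 k' U y) : pR 𝔛 hX.1 k U x = pR 𝔛 hX.1 k U y := by
  have h1 : x - y ∈ J 𝔛 hX.1 U ^ (k' + 1) := by
    rw [← (O_spec 𝔛 hX hU).2.2 k', RingHom.mem_ker, map_sub, h, sub_self]
  have h2 := Ideal.pow_le_pow_right (Nat.succ_le_succ hk) h1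
  rw [← (O_spec 𝔛 hX hU).2.2 k, RingHom.mem_ker, map_sub, sub_eq_zero] at h2
  exact h2

theorem pR_sp_ro (k : ℕ) {W V : X.Opens} (e : V ≤ W) {a : Γ(X, W)} {b : O 𝔛 hX.1 (pU 𝔛 p W)}
    (h : pR 𝔛 hX.1 k (pU 𝔛 p W) (sp hX p hp W a) = pR 𝔛 hX.1 k (pU 𝔛 p W) b) :
    pR 𝔛 hX.1 k (pU 𝔛 p V) (sp hX p hp V (ro e a)) = pR 𝔛 hX.1 k (pU 𝔛 p V) (resO 𝔛 hX.1 (pU_mono p e) b) := by
  rw [← sp_ro hX p hp e, pR_resO, pR_resO, h]

/-- The relation defining the action of the functions of the completion. -/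
def IsProd {V : (𝔛.X 0).Opens} (a : O 𝔛 hX.1 V) (s t : SN N (up p V)) : Prop :=
  ∀ (W : X.Opens), IsAffineOpen W → ∀ (e : W ≤ up p V) (k : ℕ) (a' : Γ(X, W)), KB 𝓘 (k + 1) (rsN N e s) →
    pR 𝔛 hX.1 k (pU 𝔛 p W) (sp hX p hp W a') = pR 𝔛 hX.1 k (pU 𝔛 p W) (resO 𝔛 hX.1 ((le_up_iff p).1 e) a) →
      rsN N e t = a' • rsN N e s

variable (hN : _root_.FTors.IsTorsZp X 𝓘 N)

include hN in
theorem exists_chart {U : X.Opens} (s t : SN N U) {y : X} (hy : y ∈ U) :
    ∃ (W : X.Opens) (_ : IsAffineOpen W) (e : W ≤ U) (k : ℕ), y ∈ W ∧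
      KB 𝓘 (k + 1) (rsN N e s) ∧ KB 𝓘 (k + 1) (rsN N e t) := by
  obtain ⟨W₁, g₁, ⟨n, hn⟩, hy₁⟩ := hN U s y hy
  obtain ⟨W₂, g₂, ⟨m, hm⟩, hy₂⟩ := hN U t y hy
  obtain ⟨_, ⟨W, hW, rfl⟩, hyW, hle⟩ :=
    X.isBasis_affineOpens.exists_subset_of_mem_open (show y ∈ W₁ ⊓ W₂ from ⟨hy₁, hy₂⟩) (W₁ ⊓ W₂).2
  have e₁ : W ≤ W₁ := fun x hx => (hle hx).1
  have e₂ : W ≤ W₂ := fun x hx => (hle hx).2
  refine ⟨W, hW, e₁.trans (leOfHom g₁), n + m, hyW, ?_, ?_⟩
  · have h1 := (hn.res (homOfLE e₁)).mono (show n ≤ n + m + 1 by omega)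
    rw [← _root_.FTors.res_comp] at h1
    exact h1
  · have h1 := (hm.res (homOfLE e₂)).mono (show m ≤ n + m + 1 by omega)
    rw [← _root_.FTors.res_comp] at h1
    exact h1

include hcut hN in
theorem exists_isProd {V : (𝔛.X 0).Opens} (a : O 𝔛 hX.1 V) (s : SN N (up p V)) :
    ∃ t, IsProd (𝓘 := 𝓘) hX p hp a s t := by
  choose W hW e k hyW hk _ using fun y : up p V => exists_chart hN s s y.2
  choose b hb using fun y => exists_pR_sp hX p hp hcut (hW y) (k y) (resO 𝔛 hX.1 ((le_up_iff p).1 (e y)) a)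
  have key : ∀ (y : up p V) (W' : X.Opens), IsAffineOpen W' → ∀ (e' : W' ≤ up p V) (k' : ℕ) (a' : Γ(X, W')),
      KB 𝓘 (k' + 1) (rsN N e' s) →
      pR 𝔛 hX.1 k' (pU 𝔛 p W') (sp hX p hp W' a') = pR 𝔛 hX.1 k' (pU 𝔛 p W') (resO 𝔛 hX.1 ((le_up_iff p).1 e') a) →
      ∀ (U : X.Opens) (e₁ : U ≤ W y) (e₂ : U ≤ W'),
        rsN N e₁ (b y • rsN N (e y) s) = rsN N e₂ (a' • rsN N e' s) := by
    intro y W' hW' e' k' a' hk' ha' U e₁ e₂
    refine eq_of_locally (R := _root_.ModSite.ringSh X.sheaf) N _ _ fun x hx => ?_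
    obtain ⟨_, ⟨T, hT, rfl⟩, hxT, hle⟩ := X.isBasis_affineOpens.exists_subset_of_mem_open hx U.2
    refine ⟨T, hle, hxT, ?_⟩
    show rsN N _ _ = rsN N _ _
    rw [rsN_rsN, rsN_rsN, rsN_smul, rsN_smul, rsN_rsN, rsN_rsN]
    have eT : (T : X.Opens) ≤ up p V := (le_trans hle e₁).trans (e y)
    have p₁ := pR_sp_ro hX p hp (k y) (le_trans hle e₁) (hb y)
    have p₂ := pR_sp_ro hX p hp k' (le_trans hle e₂) ha'
    rw [resO_resO] at p₁ p₂
    rcases le_total (k y) k' with hle' | hle'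
    · have q₂ := pR_congr_le hX (isAffineOpen_pU 𝔛 p hT) hle' p₂
      refine smul_congr_sp hX p hp hcut hT ?_ (p₁.trans q₂.symm)
      have := (hk y).rs 𝓘 (le_trans hle e₁)
      rwa [rsN_rsN] at this
    · have q₁ := pR_congr_le hX (isAffineOpen_pU 𝔛 p hT) hle' p₁
      refine smul_congr_sp hX p hp hcut hT ?_ (q₁.trans p₂.symm)
      have := hk'.rs 𝓘 (le_trans hle e₂)
      rwa [rsN_rsN] at this
  obtain ⟨t, ht⟩ := glue (R := _root_.ModSite.ringSh X.sheaf) N W e (fun x hx => ⟨⟨x, hx⟩, hyW _⟩)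
    (fun y => b y • rsN N (e y) s) fun y y' => key y _ (hW y') (e y') (k y') (b y') (hk y') (hb y') _ _ _
  refine ⟨t, fun W' hW' e' k' a' hk' ha' => eq_of_locally (R := _root_.ModSite.ringSh X.sheaf) N _ _ fun x hx => ?_⟩
  let y : up p V := ⟨x, e' hx⟩
  refine ⟨W y ⊓ W', inf_le_right, ⟨hyW y, hx⟩, ?_⟩
  show rsN N _ _ = rsN N _ _
  refine (rsN_rsN N e' _ t).trans ?_
  refine ((rsN_rsN N (e y) inf_le_left t).symm.trans ?_)
  rw [show rsN N (e y) t = _ from ht y]
  exact key y _ hW' e' k' a' hk' ha' _ _ _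

/-- The product of a section with a function of the completion. -/
def prodN {V : (𝔛.X 0).Opens} (a : O 𝔛 hX.1 V) (s : SN N (up p V)) : SN N (up p V) :=
  (exists_isProd hX p hp hcut hN a s).choose

theorem prodN_eq {V : (𝔛.X 0).Opens} {a : O 𝔛 hX.1 V} {s : SN N (up p V)} {W : X.Opens} (hW : IsAffineOpen W)
    (e : W ≤ up p V) {k : ℕ} (hk : KB 𝓘 (k + 1) (rsN N e s)) {a' : Γ(X, W)}
    (ha : pR 𝔛 hX.1 k (pU 𝔛 p W) (sp hX p hp W a') = pR 𝔛 hX.1 k (pU 𝔛 p W) (resO 𝔛 hX.1 ((le_up_iff p).1 e) a)) :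
    rsN N e (prodN hX p hp hcut hN a s) = a' • rsN N e s :=
  (exists_isProd hX p hp hcut hN a s).choose_spec W hW e k a' hk ha

include hN in
/-- Sections agreeing on the charts of two sections are equal. -/
theorem ext_chart {U : X.Opens} (s t : SN N U) {x y : SN N U}
    (h : ∀ (W : X.Opens) (_ : IsAffineOpen W) (e : W ≤ U) (k : ℕ),
      KB 𝓘 (k + 1) (rsN N e s) → KB 𝓘 (k + 1) (rsN N e t) → rsN N e x = rsN N e y) : x = y := by
  refine eq_of_locally (R := _root_.ModSite.ringSh X.sheaf) N _ _ fun z hz => ?_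
  obtain ⟨W, hW, e, k, hzW, h1, h2⟩ := exists_chart hN s t hz
  exact ⟨W, e, hzW, h W hW e k h1 h2⟩

/-- The action of the functions of the completion on the sections. -/
@[reducible] def modN (V : (𝔛.X 0).Opens) : Module (O 𝔛 hX.1 V) (SN N (up p V)) where
  smul a s := prodN hX p hp hcut hN a s
  one_smul s := ext_chart hN s s fun W hW e k hk _ => by
    show rsN N e (prodN hX p hp hcut hN 1 s) = rsN N e s
    rw [prodN_eq hX p hp hcut hN hW e hk (a' := 1) (by rw [map_one, map_one, map_one, map_one]), one_smul]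
  mul_smul a b s := ext_chart hN s s fun W hW e k hk _ => by
    show rsN N e (prodN hX p hp hcut hN (a * b) s) = rsN N e (prodN hX p hp hcut hN a (prodN hX p hp hcut hN b s))
    obtain ⟨a', ha⟩ := exists_pR_sp hX p hp hcut hW k (resO 𝔛 hX.1 ((le_up_iff p).1 e) a)
    obtain ⟨b', hb⟩ := exists_pR_sp hX p hp hcut hW k (resO 𝔛 hX.1 ((le_up_iff p).1 e) b)
    have h1 := prodN_eq hX p hp hcut hN hW e hk hb
    rw [prodN_eq hX p hp hcut hN hW e hk (a' := a' * b') (by rw [map_mul, map_mul, ha, hb, map_mul, map_mul]),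
      prodN_eq hX p hp hcut hN hW e (by rw [h1]; exact _root_.FTors.KilledBy.smul _ hk) ha, h1, mul_smul]
  smul_zero a := ext_chart hN (0 : SN N (up p V)) 0 fun W hW e k hk _ => by
    show rsN N e (prodN hX p hp hcut hN a 0) = rsN N e 0
    obtain ⟨a', ha⟩ := exists_pR_sp hX p hp hcut hW k (resO 𝔛 hX.1 ((le_up_iff p).1 e) a)
    rw [prodN_eq hX p hp hcut hN hW e hk ha, show rsN N e (0 : SN N (up p V)) = 0 from _root_.FTors.res_zero N _,
      smul_zero]
  smul_add a s t := ext_chart hN s t fun W hW e k hk hk' => by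
    show rsN N e (prodN hX p hp hcut hN a (s + t)) =
      rsN N e (prodN hX p hp hcut hN a s + prodN hX p hp hcut hN a t)
    have hadd : ∀ u v : SN N (up p V), rsN N e (u + v) = rsN N e u + rsN N e v := fun u v =>
      _root_.FTors.res_add N _ u v
    obtain ⟨a', ha⟩ := exists_pR_sp hX p hp hcut hW k (resO 𝔛 hX.1 ((le_up_iff p).1 e) a)
    rw [prodN_eq hX p hp hcut hN hW e (by rw [hadd]; exact _root_.FTors.KilledBy.add hk hk') ha, hadd, hadd,
      prodN_eq hX p hp hcut hN hW e hk ha, prodN_eq hX p hp hcut hN hW e hk' ha, smul_add]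
  add_smul a b s := ext_chart hN s s fun W hW e k hk _ => by
    show rsN N e (prodN hX p hp hcut hN (a + b) s) =
      rsN N e (prodN hX p hp hcut hN a s + prodN hX p hp hcut hN b s)
    obtain ⟨a', ha⟩ := exists_pR_sp hX p hp hcut hW k (resO 𝔛 hX.1 ((le_up_iff p).1 e) a)
    obtain ⟨b', hb⟩ := exists_pR_sp hX p hp hcut hW k (resO 𝔛 hX.1 ((le_up_iff p).1 e) b)
    rw [show rsN N e (prodN hX p hp hcut hN a s + prodN hX p hp hcut hN b s) =
      rsN N e (prodN hX p hp hcut hN a s) + rsN N e (prodN hX p hp hcut hN b s) from _root_.FTors.res_add N _ _ _,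
      prodN_eq hX p hp hcut hN hW e hk ha, prodN_eq hX p hp hcut hN hW e hk hb,
      prodN_eq hX p hp hcut hN hW e hk (a' := a' + b') (by rw [map_add, map_add, ha, hb, map_add, map_add]), add_smul]
  zero_smul s := ext_chart hN s s fun W hW e k hk _ => by
    show rsN N e (prodN hX p hp hcut hN 0 s) = rsN N e 0
    rw [prodN_eq hX p hp hcut hN hW e hk (a' := 0) (by rw [map_zero, map_zero, map_zero, map_zero]), zero_smul]
    exact (_root_.FTors.res_zero N _).symm

theorem rsN_prodN {V V' : (𝔛.X 0).Opens} (e : V' ≤ V) (a : O 𝔛 hX.1 V) (s : SN N (up p V)) :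
    rsN N (up_mono p e) (prodN hX p hp hcut hN a s) =
      prodN hX p hp hcut hN (resO 𝔛 hX.1 e a) (rsN N (up_mono p e) s) :=
  ext_chart hN (rsN N (up_mono p e) s) (rsN N (up_mono p e) s) fun W hW e' k hk _ => by
    have hk' : KB 𝓘 (k + 1) (rsN N (e'.trans (up_mono p e)) s) := by rwa [rsN_rsN] at hk
    obtain ⟨a', ha⟩ := exists_pR_sp hX p hp hcut hW k (resO 𝔛 hX.1 ((le_up_iff p).1 e') (resO 𝔛 hX.1 e a))
    rw [rsN_rsN, prodN_eq hX p hp hcut hN hW e' hk ha, rsN_rsN]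
    exact prodN_eq hX p hp hcut hN hW _ hk' (by rw [ha, resO_resO])

/-- The map on opens. -/
def upF : Opens (𝔛.X 0) ⥤ X.Opens where
  obj := up p
  map i := homOfLE (up_mono p (leOfHom i))

/-- The sheaf of abelian groups underlying the candidate. -/
abbrev descAb : (Opens (𝔛.X 0))ᵒᵖ ⥤ Ab.{u} := (upF p).op ⋙ N.val.presheaf

include hX hp hcut hN in
theorem eq_zero_off {U : X.Opens} (hU : ∀ z, p 0 z ∉ U) (s : SN N U) : s = 0 :=
  ext_chart hN s s fun W hW e k hk _ => by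
    have h1 : pR 𝔛 hX.1 k (pU 𝔛 p W) (sp hX p hp W 1) = pR 𝔛 hX.1 k (pU 𝔛 p W) (sp hX p hp W 0) := by
      refine TopCat.Sheaf.eq_of_locally_eq' (𝔛.X k).sheaf (fun i : PEmpty.{u + 1} => i.elim) _
        (fun i => i.elim) (fun z hz => ?_) _ _ fun i => i.elim
      obtain ⟨z', hz'⟩ := 𝔛.toX_surjective hX.1 k z
      exact absurd ((e (show p 0 z' ∈ W from by
        have h2 : z' ∈ 𝔛.toX k ⁻¹ᵁ 𝔛.lvU hX.1 k (pU 𝔛 p W) := by
          show 𝔛.toX k z' ∈ 𝔛.lvU hX.1 k (pU 𝔛 p W)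
          rw [hz']; exact hz
        rw [toX_preimage_lvU] at h2
        exact h2))) (hU z')
    have h3 := smul_congr_sp hX p hp hcut hW hk h1
    rw [one_smul, zero_smul] at h3
    rw [h3]
    exact (_root_.FTors.res_zero N _).symm

include hX hp hcut hN in
theorem existsUnique_glue {ι : Type u} (U : ι → Opens (𝔛.X 0)) (s : ∀ i, SN N (up p (U i)))
    (hs : ∀ i j, rsN N (up_mono p (inf_le_left : U i ⊓ U j ≤ U i)) (s i) =
      rsN N (up_mono p (inf_le_right : U i ⊓ U j ≤ U j)) (s j)) :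
    ∃! t : SN N (up p (iSup U)), ∀ i, rsN N (up_mono p (le_iSup U i)) t = s i := by
  let off : X.Opens := ⟨(Set.range (p 0))ᶜ, (p 0).isClosedEmbedding.isClosed_range.isOpen_compl⟩
  let W : Option ι → X.Opens := fun o => o.elim off fun i => up p (U i)
  have hoff : ∀ {Z : X.Opens}, Z ≤ off → ∀ a b : SN N Z, a = b := fun {Z} hZ a b => by
    rw [eq_zero_off hX p hp hcut hN (fun z hz => hZ hz ⟨z, rfl⟩) a,
      eq_zero_off hX p hp hcut hN (fun z hz => hZ hz ⟨z, rfl⟩) b]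
  have hW : ∀ o, W o ≤ up p (iSup U) := by
    rintro (_ | i)
    · exact (le_up_iff p).2 fun z hz => absurd ⟨z, rfl⟩ hz
    · exact up_mono p (le_iSup U i)
  have hcov : ∀ y ∈ up p (iSup U), ∃ o, y ∈ W o := fun y hy => by
    by_cases hyr : y ∈ Set.range (p 0)
    · obtain ⟨z, rfl⟩ := hyr
      obtain ⟨i, hi⟩ := Opens.mem_iSup.1 ((mem_up p).1 hy z rfl)
      exact ⟨some i, (mem_up p).2 fun t ht => (p 0).isClosedEmbedding.injective ht ▸ hi⟩
    · exact ⟨none, hyr⟩
  obtain ⟨t, ht⟩ := glue (R := _root_.ModSite.ringSh X.sheaf) N W hW hcov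
    (fun o => match o with
      | none => 0
      | some i => s i) (by
      rintro (_ | i) (_ | j)
      · rfl
      · exact hoff inf_le_left _ _
      · exact hoff inf_le_right _ _
      · have e : W (some i) ⊓ W (some j) ≤ up p (U i ⊓ U j) := (le_up_iff p).2
          (le_inf (((pU_mono p inf_le_left)).trans (pU_up p (U i)).le) (((pU_mono p inf_le_right)).trans (pU_up p (U j)).le))
        have h1 := congrArg (rsN N e) (hs i j)
        rw [rsN_rsN, rsN_rsN] at h1
        exact h1)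
  refine ⟨t, fun i => ht (some i), fun t' ht' => eq_of_locally (R := _root_.ModSite.ringSh X.sheaf) N _ _ ?_⟩
  intro y hy
  obtain ⟨o, ho⟩ := hcov y hy
  refine ⟨W o, hW o, ho, ?_⟩
  cases o with
  | none => exact hoff le_rfl _ _
  | some i => exact (ht' i).trans (ht (some i)).symm

/-- The module on the completion. -/
def descMod : FSch.ModF 𝔛 hX.1 :=
  letI hM : ∀ V : (Opens (𝔛.X 0))ᵒᵖ,
      Module ((_root_.ModSite.ringSh (𝔛.Osh hX.1)).obj.obj V) ((descAb (N := N) p).obj V) := fun V =>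
    modN hX p hp hcut hN V.unop
  { val := PresheafOfModules.ofPresheaf (R := (_root_.ModSite.ringSh (𝔛.Osh hX.1)).obj) (descAb (N := N) p)
      fun V V' i a s => rsN_prodN hX p hp hcut hN (leOfHom i.unop) a s
    isSheaf := by
      show TopCat.Presheaf.IsSheaf (descAb (N := N) p)
      rw [TopCat.Presheaf.isSheaf_iff_isSheafUniqueGluing]
      exact fun ι U s hs => existsUnique_glue hX p hp hcut hN U s hs }

theorem descMod_smul {V : (𝔛.X 0).Opens} (a : O 𝔛 hX.1 V) (s : SN N (up p V)) :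
    (show SN N (up p V) from a • (show SF 𝔛 hX.1 (descMod hX p hp hcut hN) V from s)) =
      prodN hX p hp hcut hN a s := rfl

theorem bijective_res_up (W : X.Opens) (hN' : _root_.FTors.IsTorsZp X 𝓘 N) (hcut' : CutBy 𝔛 p 𝓘) (hX' : 𝔛.IsLocNoethFormal)
    (hp' : ∀ k, 𝔛.ι k ≫ p (k + 1) = p k) : Function.Bijective (rsN N (le_up_pU p W)) := by
  let off : X.Opens := ⟨(Set.range (p 0))ᶜ, (p 0).isClosedEmbedding.isClosed_range.isOpen_compl⟩
  let Z : Bool → X.Opens := fun b => cond b W off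
  have hoff : ∀ {T : X.Opens}, T ≤ off → ∀ a b : SN N T, a = b := fun {T} hT a b => by
    rw [eq_zero_off hX' p hp' hcut' hN' (fun z hz => hT hz ⟨z, rfl⟩) a,
      eq_zero_off hX' p hp' hcut' hN' (fun z hz => hT hz ⟨z, rfl⟩) b]
  have hcov : ∀ y ∈ up p (pU 𝔛 p W), y ∈ W ∨ y ∈ off := fun y hy => by
    by_cases hyr : y ∈ Set.range (p 0)
    · obtain ⟨z, rfl⟩ := hyr
      exact .inl ((mem_up p).1 hy z rfl)
    · exact .inr hyr
  refine ⟨fun a b hab => eq_of_locally (R := _root_.ModSite.ringSh X.sheaf) N _ _ fun y hy => ?_, fun s => ?_⟩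
  · rcases hcov y hy with h | h
    · exact ⟨W, le_up_pU p W, h, hab⟩
    · exact ⟨up p (pU 𝔛 p W) ⊓ off, inf_le_left, ⟨hy, h⟩, hoff inf_le_right _ _⟩
  · obtain ⟨t, ht⟩ := glue (R := _root_.ModSite.ringSh X.sheaf) N
      (fun o : ULift.{u} Bool => bif o.down then W else up p (pU 𝔛 p W) ⊓ off)
      (fun o => match o with
        | ⟨true⟩ => le_up_pU p W
        | ⟨false⟩ => inf_le_left)
      (fun y hy => (hcov y hy).elim (fun h => ⟨⟨true⟩, h⟩) fun h => ⟨⟨false⟩, hy, h⟩)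
      (fun o => match o with
        | ⟨true⟩ => s
        | ⟨false⟩ => (0 : SN N (up p (pU 𝔛 p W) ⊓ off))) (by
        rintro ⟨_ | _⟩ ⟨_ | _⟩
        · rfl
        · exact hoff (inf_le_left.trans inf_le_right) _ _
        · exact hoff (inf_le_right.trans inf_le_right) _ _
        · rfl)
    exact ⟨t, ht ⟨true⟩⟩

/-- The comparison of the direct image of the candidate with the module. -/
def descHom : (κ hX p hp).push.obj (descMod hX p hp hcut hN) ⟶ N :=
  ⟨PresheafOfModules.homMk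
    { app := fun W => AddCommGrpCat.ofHom
        { toFun := fun s => rsN N (le_up_pU p W.unop) s
          map_zero' := _root_.FTors.res_zero N _
          map_add' := fun s t => _root_.FTors.res_add N _ (show SN N (up p (pU 𝔛 p W.unop)) from s) t }
      naturality := fun W W' i => by
        ext s
        show rsN N (le_up_pU p W'.unop) (rsN N (up_mono p (pU_mono p (leOfHom i.unop))) s) =
          rsN N (leOfHom i.unop) (rsN N (le_up_pU p W.unop) s)
        rw [rsN_rsN, rsN_rsN] }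
    (fun W a s => by
      show rsN N (le_up_pU p W.unop) (prodN hX p hp hcut hN (sp hX p hp W.unop a) s) =
        a • rsN N (le_up_pU p W.unop) s
      refine ext_chart hN (rsN N (le_up_pU p W.unop) s) (rsN N (le_up_pU p W.unop) s) fun T hT e k hk _ => ?_
      rw [rsN_rsN] at hk
      rw [rsN_rsN, rsN_smul, rsN_rsN]
      exact prodN_eq hX p hp hcut hN hT _ hk (congrArg _ (sp_ro hX p hp e a).symm))⟩

instance isIso_descHom : IsIso (descHom hX p hp hcut hN) :=
  (Scheme.Modules.Hom.isIso_iff_isIso_app (M := (κ hX p hp).push.obj (descMod hX p hp hcut hN)) (N := N)).2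
    fun W => (ConcreteCategory.isIso_iff_bijective _).2 (bijective_res_up p W hN hcut hX hp)

include hcut hN in
theorem isTorsF_descMod : _root_.FTors.IsTorsF 𝔛 hX.1 (descMod hX p hp hcut hN) := fun V s => by
  let s₀ : SF 𝔛 hX.1 (descMod hX p hp hcut hN) V := s
  let t : SN N (up p V) := ((descHom hX p hp hcut hN).val.app (op (up p V))).hom (ofK p hX hp s₀)
  have h1 := tors_of_isTorsZp hX p hp hcut hN (inv (descHom hX p hp hcut hN)) (up p V) t
  have h2 : toK hX p hp (((inv (descHom hX p hp hcut hN)).val.app (op (up p V))).hom t) = ofK p hX hp s₀ :=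
    LinearMap.congr_fun (congrArg (fun f : (κ hX p hp).push.obj (descMod hX p hp hcut hN) ⟶ _ =>
      (f.val.app (op (up p V))).hom) (IsIso.hom_inv_id (descHom hX p hp hcut hN))) (ofK p hX hp s₀)
  rw [h2] at h1
  have h3 := _root_.FTors.IsTorsSect.res (homOfLE (pU_up p V).ge) h1
  rwa [show _root_.FTors.res _ (homOfLE (pU_up p V).ge) (ofK p hX hp s₀) = s from
    (rsF_rsF _ _ _ s₀).trans (res_self _ _ s₀)] at h3

include hcut hN in
/-- The unit is an isomorphism on power torsion modules. -/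
theorem isIso_unit_tors : IsIso ((κ hX p hp).adj.unit.app N) := by
  let M := descMod hX p hp hcut hN
  haveI := isIso_counit_tors p hX hp hcut (isTorsF_descMod hX p hp hcut hN)
  haveI h1 : IsIso ((κ hX p hp).adj.unit.app ((κ hX p hp).push.obj M)) := by
    haveI : IsIso ((κ hX p hp).adj.unit.app ((κ hX p hp).push.obj M) ≫
        (κ hX p hp).push.map ((κ hX p hp).adj.counit.app M)) := by
      rw [Adjunction.right_triangle_components]
      infer_instance
    exact IsIso.of_isIso_comp_right _ ((κ hX p hp).push.map ((κ hX p hp).adj.counit.app M))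
  exact (NatTrans.isIso_app_iff_of_iso (κ hX p hp).adj.unit (asIso (descHom hX p hp hcut hN))).1 h1

end Groth.L28.QCT
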