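import Groth.Agent.L28.FTors.KapTors
import Groth.Agent.L16.CohClosedPush

/-!
# Direct images to the scheme of quasi-coherent torsion modules on the completion
-/

set_option autoImplicit false
set_option linter.style.haveILetI false
set_option linter.unusedSectionVars false
set_option backward.isDefEq.respectTransparency false
set_option backward.isDefEq.respectTransparency.types false

universe u

open CategoryTheory CategoryTheory.Limits AlgebraicGeometry TopologicalSpace Opposite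

noncomputable section

namespace Groth.L28.QCT

open Groth.L17.FSheaf Groth.L09.IndCoh
open Groth.L18.Frame (rs ro)

variable {X : Scheme.{u}} {𝔛 : FSch.Sys.{u}} (hX : 𝔛.IsLocNoethFormal) (p : ∀ k, 𝔛.X k ⟶ X)
  (hp : ∀ k, 𝔛.ι k ≫ p (k + 1) = p k) [IsClosedImmersion (p 0)] {M : FSch.ModF 𝔛 hX.1}

/-- Direct images of quasi-coherent torsion modules are quasi-coherent. -/
theorem isQCoh_push_sch (hM : _root_.FTors.IsQCT 𝔛 hX.1 M) :
    Coh.IsQCoh (X := X) ((κ hX p hp).push.obj M) := by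
  obtain ⟨hT, hR, hL⟩ := (isQCT_iff hX).1 hM
  refine Groth.L16.QcqsPush.isQCoh_of_sections _ fun y => ?_
  obtain ⟨_, ⟨V, hV, rfl⟩, hyV, -⟩ :=
    X.isBasis_affineOpens.exists_subset_of_mem_open (Set.mem_univ y) isOpen_univ
  refine ⟨V, hyV, hV, fun a => ⟨fun s => ?_, fun t ht => ?_⟩⟩
  · let s' : SF 𝔛 hX.1 M (pU 𝔛 p (X.basicOpen a)) := s
    obtain ⟨N, u, hu⟩ := extend_affine hX hR hL hT (isAffineOpen_pU 𝔛 p hV) (sp hX p hp V a)
      (rsF M (Dop_sp hX p hp V a).le s')
    refine ⟨N, u, ?_⟩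
    show rsF M (pU_mono p (X.basicOpen_le a)) u = sp hX p hp _ (ro (X.basicOpen_le a) (a ^ N)) • s'
    have h1 := congrArg (rsF M (Dop_sp hX p hp V a).ge) hu
    rw [rsF_rsF, rsF_pow_smul hX, rsF_rsF, resO_resO, show rsF M le_rfl s' = s' from res_self M _ s'] at h1
    rw [h1, ← sp_ro hX p hp (X.basicOpen_le a), map_pow, map_pow]
  · let t' : SF 𝔛 hX.1 M (pU 𝔛 p V) := t
    have h0 : rsF M (pU_mono p (X.basicOpen_le a)) t' = 0 := ht
    obtain ⟨N, hN⟩ := exists_pow_smul_eq_zero hX hR (isAffineOpen_pU 𝔛 p hV) (sp hX p hp V a) t' (hT _ _) (by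
      have h1 := (congrArg (rsF M (Dop_sp hX p hp V a).le) h0).trans (res_zero M _)
      rw [rsF_rsF] at h1
      exact h1)
    refine ⟨N, ?_⟩
    show sp hX p hp V (a ^ N) • t' = 0
    rw [map_pow]
    exact hN

variable {𝓘 : X.IdealSheafData} (hcut : CutBy 𝔛 p 𝓘)

include hcut in
/-- Direct images of coherent torsion modules are coherent. -/
theorem isCoh_push_sch (hM : _root_.FTors.IsQCT 𝔛 hX.1 M) (hc : FSch.IsCohF 𝔛 hX.1 M) :
    Coh.IsCoh (X := X) ((κ hX p hp).push.obj M) := by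
  haveI := isQCoh_push_sch hX p hp hM
  refine Groth.L16.CohClosedPush.isCoh_of_finite_sections _ fun y => ?_
  obtain ⟨_, ⟨V, hV, rfl⟩, hyV, -⟩ :=
    X.isBasis_affineOpens.exists_subset_of_mem_open (Set.mem_univ y) isOpen_univ
  refine ⟨V, hyV, hV, ?_⟩
  have hU := isAffineOpen_pU 𝔛 p hV
  obtain ⟨n, g, hg⟩ := exists_gens hX hc hU
  obtain ⟨k, hk⟩ := exists_killed_family hU.isCompact g fun i => hM.1 _ (g i)
  classical
  refine ⟨⟨Finset.univ.image (fun i => (show Γ((κ hX p hp).push.obj M, V) from g i)), top_le_iff.1 fun z _ => ?_⟩⟩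
  rw [Finset.coe_image, Finset.coe_univ, Set.image_univ, Submodule.mem_span_range_iff_exists_fun]
  obtain ⟨c, hz⟩ := hg hU le_rfl (show SF 𝔛 hX.1 M (pU 𝔛 p V) from z)
  choose a ha using fun i => exists_pR_sp hX p hp hcut hV k (c i)
  refine ⟨a, ?_⟩
  show (∑ i, sp hX p hp V (a i) • g i) = (show SF 𝔛 hX.1 M (pU 𝔛 p V) from z)
  rw [hz]
  refine Finset.sum_congr rfl fun i _ => ?_
  rw [show rsF M le_rfl (g i) = g i from res_self M _ _, ← sub_eq_zero, ← sub_smul]
  refine smul_eq_zero_of_mem hX hU (hk i) ?_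
  rw [← (O_spec 𝔛 hX hU).2.2 k, RingHom.mem_ker, map_sub, ha i, sub_self]

end Groth.L28.QCT
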