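import Groth.Agent.L28.FTors.Main
import Groth.Agent.L17.FSheaf.CompSect
import Groth.Prelude.Def_FTors3

/-!
# Torsion modules on a scheme and on its completion
-/

set_option autoImplicit false
set_option linter.style.haveILetI false
set_option linter.unusedSectionVars false
set_option backward.isDefEq.respectTransparency false
set_option backward.isDefEq.respectTransparency.types false

universe u

open CategoryTheory CategoryTheory.Limits AlgebraicGeometry TopologicalSpace Opposite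

noncomputable section

namespace Groth.L28.QCT

open Groth.L17.FSheaf Groth.L09.IndCoh
open Groth.L18.Frame (ro)

variable {X : Scheme.{u}} {𝔛 : FSch.Sys.{u}} (hX : 𝔛.IsLocNoethFormal) (p : ∀ k, 𝔛.X k ⟶ X)
  (hp : ∀ k, 𝔛.ι k ≫ p (k + 1) = p k)

/-- The morphism from the completion. -/
abbrev κ : ModSite.RMor (𝔛.Osh hX.1) X.sheaf := FSch.toSchemeMor 𝔛 hX.1 p hp

/-- The functions of the scheme in those of the completion. -/
abbrev sp (W : X.Opens) : Γ(X, W) →+* O 𝔛 hX.1 (pU 𝔛 p W) :=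
  ((FSch.schSharp 𝔛 hX.1 p hp).hom.app (op W)).hom

theorem pU_mono {V W : X.Opens} (e : V ≤ W) : pU 𝔛 p V ≤ pU 𝔛 p W := (p 0).preimage_mono e

theorem sp_ro {V W : X.Opens} (e : V ≤ W) (a : Γ(X, W)) :
    resO 𝔛 hX.1 (pU_mono p e) (sp hX p hp W a) = sp hX p hp V (ro e a) :=
  (ConcreteCategory.congr_hom ((FSch.schSharp 𝔛 hX.1 p hp).hom.naturality (homOfLE e).op) a).symm

theorem pR_sp (k : ℕ) (W : X.Opens) (a : Γ(X, W)) :
    pR 𝔛 hX.1 k (pU 𝔛 p W) (sp hX p hp W a) =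
      ((p k).appLE W (𝔛.lvU hX.1 k (pU 𝔛 p W)) (pU_le 𝔛 hX.1 p hp k W)).hom a := by
  show (𝔛.OshProj hX.1 k).hom.app (op (p 0 ⁻¹ᵁ W)) ((FSch.schSharp 𝔛 hX.1 p hp).hom.app (op W) a) =
    (p k).appLE W _ (FSch.lvU_p 𝔛 hX.1 p hp k W).ge a
  rw [← FSch.schLevel_app 𝔛 hX.1 p hp k (op W), ← FSch.schSharp_proj 𝔛 hX.1 p hp k]
  rfl

theorem Dop_sp (W : X.Opens) (a : Γ(X, W)) : Dop hX.1 (sp hX p hp W a) = pU 𝔛 p (X.basicOpen a) := by
  show (𝔛.X 0).basicOpen (pR 𝔛 hX.1 0 (pU 𝔛 p W) (sp hX p hp W a)) = _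
  rw [pR_sp]
  refine (Scheme.basicOpen_appLE _ _ _ _ _).trans (inf_eq_right.2 ?_)
  exact (pU_mono p (X.basicOpen_le a)).trans (lvU_zero 𝔛 hX.1 _).ge

variable {𝓘 : X.IdealSheafData} (hcut : CutBy 𝔛 p 𝓘)

include hcut in
theorem pR_sp_eq_zero_iff {W : X.Opens} (hW : IsAffineOpen W) (k : ℕ) (a : Γ(X, W)) :
    pR 𝔛 hX.1 k (pU 𝔛 p W) (sp hX p hp W a) = 0 ↔ a ∈ (𝓘.ideal ⟨W, hW⟩) ^ (k + 1) := by
  rw [pR_sp, ← RingHom.mem_ker, ← (hcut k ⟨W, hW⟩).2, ker_appLE (p k) (FSch.lvU_p 𝔛 hX.1 p hp k W).symm]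

include hcut in
theorem pR_sp_eq_zero {W : X.Opens} (k : ℕ) {a : Γ(X, W)}
    (ha : a ∈ (_root_.FTors.powIdealFam X 𝓘).ideal (k + 1) W) : pR 𝔛 hX.1 k (pU 𝔛 p W) (sp hX p hp W a) = 0 := by
  refine TopCat.Sheaf.eq_of_locally_eq' (𝔛.X k).sheaf
    (fun V : {V : X.affineOpens // (V : X.Opens) ≤ W} => 𝔛.lvU hX.1 k (pU 𝔛 p V.1.1))
    (𝔛.lvU hX.1 k (pU 𝔛 p W)) (fun V => homOfLE (lvU_mono 𝔛 hX.1 k (pU_mono p V.2))) (fun z hz => ?_) _ _
    fun V => ?_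
  · have hz' : p k z ∈ W := pU_le 𝔛 hX.1 p hp k W hz
    obtain ⟨_, ⟨V, hV, rfl⟩, hxV, hle⟩ := X.isBasis_affineOpens.exists_subset_of_mem_open hz' W.2
    exact Opens.mem_iSup.2 ⟨⟨⟨V, hV⟩, hle⟩, (FSch.lvU_p 𝔛 hX.1 p hp k V).le hxV⟩
  · show ro (lvU_mono 𝔛 hX.1 k (pU_mono p V.2)) (pR 𝔛 hX.1 k (pU 𝔛 p W) (sp hX p hp W a)) = ro _ 0
    rw [show ro (lvU_mono 𝔛 hX.1 k (pU_mono p V.2)) (0 : Γ(𝔛.X k, 𝔛.lvU hX.1 k (pU 𝔛 p W))) = 0 from map_zero _,
      ← pR_resO 𝔛 hX.1 (pU_mono p V.2) k, sp_ro hX p hp V.2]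
    exact (pR_sp_eq_zero_iff hX p hp hcut V.1.2 k _).2 ((_root_.FTors.mem_powIdealFam_iff X 𝓘 _ W a).1 ha V.1 V.2)

theorem mem_powIdealFam_of_mem {W : X.Opens} (hW : IsAffineOpen W) {n : ℕ} {a : Γ(X, W)}
    (ha : a ∈ (𝓘.ideal ⟨W, hW⟩) ^ n) : a ∈ (_root_.FTors.powIdealFam X 𝓘).ideal n W :=
  (_root_.FTors.mem_powIdealFam_iff X 𝓘 n W a).2 fun V hV => by
    have h1 := Ideal.mem_map_of_mem (X.presheaf.map (homOfLE hV).op).hom ha
    rw [Ideal.map_pow] at h1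
    exact Ideal.pow_right_mono (Ideal.map_le_iff_le_comap.2 (𝓘.ideal_le_comap_ideal (U := V) (V := ⟨W, hW⟩) hV)) n h1

variable [IsClosedImmersion (p 0)]

include hcut in
theorem exists_pR_sp {W : X.Opens} (hW : IsAffineOpen W) (k : ℕ) (b : O 𝔛 hX.1 (pU 𝔛 p W)) :
    ∃ a, pR 𝔛 hX.1 k (pU 𝔛 p W) (sp hX p hp W a) = pR 𝔛 hX.1 k (pU 𝔛 p W) b := by
  obtain ⟨a, ha⟩ := appLE_surjective_of_eq (p k) (FSch.lvU_p 𝔛 hX.1 p hp k W).symm (hcut k ⟨W, hW⟩).1
    (pR 𝔛 hX.1 k (pU 𝔛 p W) b)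
  exact ⟨a, (pR_sp hX p hp k W a).trans ha⟩

include hcut in
/-- The open ideals come from the scheme. -/
theorem J_le_map {W : X.Opens} (hW : IsAffineOpen W) :
    J 𝔛 hX.1 (pU 𝔛 p W) ≤ (𝓘.ideal ⟨W, hW⟩).map (sp hX p hp W) := by
  obtain ⟨hN, hC, hker⟩ := O_spec 𝔛 hX (isAffineOpen_pU 𝔛 p hW)
  haveI := hN
  haveI := hC
  refine Submodule.le_of_le_smul_of_le_jacobson_bot (IsNoetherian.noetherian _)
    (IsAdicComplete.le_jacobson_bot (J 𝔛 hX.1 (pU 𝔛 p W))) fun b hb => ?_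
  obtain ⟨a, ha⟩ := exists_pR_sp hX p hp hcut hW 1 b
  have hb1 : b - sp hX p hp W a ∈ J 𝔛 hX.1 (pU 𝔛 p W) ^ 2 := by
    show b - sp hX p hp W a ∈ J 𝔛 hX.1 (pU 𝔛 p W) ^ (1 + 1)
    rw [← hker 1, RingHom.mem_ker, map_sub, ha, sub_self]
  have ha0 : sp hX p hp W a ∈ J 𝔛 hX.1 (pU 𝔛 p W) :=
    (sub_sub_cancel b (sp hX p hp W a)) ▸ sub_mem hb (Ideal.pow_le_self two_ne_zero hb1)
  have ha' : a ∈ 𝓘.ideal ⟨W, hW⟩ := by
    have := (pR_sp_eq_zero_iff hX p hp hcut hW 0 a).1 (RingHom.mem_ker.1 ha0)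
    rwa [zero_add, pow_one] at this
  refine Submodule.mem_sup.2 ⟨sp hX p hp W a, Ideal.mem_map_of_mem _ ha', b - sp hX p hp W a, ?_, add_sub_cancel _ _⟩
  rw [smul_eq_mul, ← pow_two]
  exact hb1

variable {M : FSch.ModF 𝔛 hX.1}

include hcut in
/-- A section is annihilated by an open ideal as soon as the powers of the ideal annihilate it. -/
theorem killed_sp {W : X.Opens} (hW : IsAffineOpen W) {k : ℕ} {s : SF 𝔛 hX.1 M (pU 𝔛 p W)}
    (H : ∀ a ∈ (𝓘.ideal ⟨W, hW⟩) ^ (k + 1), sp hX p hp W a • s = 0) : Killed M k s := by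
  refine killed_of_affine hX (isAffineOpen_pU 𝔛 p hW) fun b hb => ?_
  have h1 : b ∈ ((𝓘.ideal ⟨W, hW⟩) ^ (k + 1)).map (sp hX p hp W) := by
    rw [Ideal.map_pow]
    exact Ideal.pow_right_mono (J_le_map hX p hp hcut hW) _ hb
  clear hb
  induction h1 using Submodule.span_induction with
  | mem b hb =>
    obtain ⟨c, hc, rfl⟩ := hb
    exact H c hc
  | zero => exact zero_smul _ _
  | add b c _ _ hb' hc' => rw [add_smul, hb', hc', add_zero]
  | smul r b _ hb' => rw [smul_eq_mul, mul_smul, hb', smul_zero]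

/-- A section of the direct image as a section on the preimage. -/
abbrev toK {W : X.Opens} (x : _root_.ModSite.sect ((κ hX p hp).push.obj M) W) : SF 𝔛 hX.1 M (pU 𝔛 p W) := x

theorem toK_smul {W : X.Opens} (a : Γ(X, W)) (x : _root_.ModSite.sect ((κ hX p hp).push.obj M) W) :
    toK hX p hp (a • x) = sp hX p hp W a • toK hX p hp x := rfl

theorem toK_res {V W : X.Opens} (g : V ⟶ W) (x : _root_.ModSite.sect ((κ hX p hp).push.obj M) W) :
    toK hX p hp (_root_.FTors.res _ g x) = rsF M (pU_mono p (leOfHom g)) (toK hX p hp x) := rfl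

include hcut in
theorem killedBy_push {k : ℕ} {W : X.Opens} {x : _root_.ModSite.sect ((κ hX p hp).push.obj M) W}
    (hx : Killed M k (toK hX p hp x)) :
    _root_.FTors.KilledBy (_root_.FTors.powIdealFam X 𝓘) ((κ hX p hp).push.obj M) (k + 1) x := fun V g a ha => by
  show toK hX p hp (a • _root_.FTors.res _ g x) = 0
  rw [toK_smul, toK_res]
  exact smul_eq_zero_of_killed hx _ (pR_sp_eq_zero hX p hp hcut k ha)

include hcut in
/-- Direct images of torsion modules are power torsion. -/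
theorem isTorsZp_push (hT : _root_.FTors.IsTorsF 𝔛 hX.1 M) :
    _root_.FTors.IsTorsZp X 𝓘 ((κ hX p hp).push.obj M) := fun W x y hy => by
  by_cases hyr : y ∈ Set.range (p 0)
  · obtain ⟨z, rfl⟩ := hyr
    obtain ⟨V', e', hzV', k, hk⟩ := tors_iff.1 (hT (pU 𝔛 p W) (toK hX p hp x)) z hy
    obtain ⟨Ω, hΩ, eΩ⟩ := (p 0).isClosedEmbedding.isInducing.isOpen_iff.1 V'.2
    let V : X.Opens := W ⊓ ⟨Ω, hΩ⟩
    have hle : pU 𝔛 p V ≤ V' := fun t ht => eΩ.le ht.2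
    refine ⟨V, homOfLE inf_le_left, ⟨k + 1, killedBy_push hX p hp hcut ?_⟩, hy, eΩ.ge hzV'⟩
    have h1 := hk.rs hle
    rw [rsF_rsF] at h1
    exact h1
  · let V : X.Opens := W ⊓ ⟨(Set.range (p 0))ᶜ, (p 0).isClosedEmbedding.isClosed_range.isOpen_compl⟩
    refine ⟨V, homOfLE inf_le_left, ⟨0 + 1, killedBy_push hX p hp hcut (k := 0) ?_⟩, hy, hyr⟩
    exact killed_local fun z hz => absurd ⟨z, rfl⟩ hz.2

include hcut in
theorem killed_of_killedBy {N : _root_.ModSite.Mod X.sheaf} (η : N ⟶ (κ hX p hp).push.obj M) {W : X.Opens}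
    (hW : IsAffineOpen W) {k : ℕ} {s : _root_.ModSite.sect N W}
    (hs : _root_.FTors.KilledBy (_root_.FTors.powIdealFam X 𝓘) N (k + 1) s) :
    Killed M k (toK hX p hp ((η.val.app (op W)).hom s)) := by
  refine killed_sp hX p hp hcut hW fun a ha => ?_
  have h0 := hs (𝟙 W) a (mem_powIdealFam_of_mem hW ha)
  rw [_root_.FTors.res_id] at h0
  rw [← toK_smul, ← map_smul, h0, map_zero]

include hcut in
theorem tors_of_isTorsZp {N : _root_.ModSite.Mod X.sheaf} (hN : _root_.FTors.IsTorsZp X 𝓘 N)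
    (η : N ⟶ (κ hX p hp).push.obj M) (W : X.Opens) (s : _root_.ModSite.sect N W) :
    Tors M (toK hX p hp ((η.val.app (op W)).hom s)) := by
  refine tors_iff.2 fun z hz => ?_
  obtain ⟨W₁, g, ⟨n, hn⟩, hzW₁⟩ := hN W s (p 0 z) hz
  obtain ⟨_, ⟨V, hV, rfl⟩, hzV, hle⟩ := X.isBasis_affineOpens.exists_subset_of_mem_open hzW₁ W₁.2
  refine ⟨pU 𝔛 p V, pU_mono p (le_trans hle (leOfHom g)), hzV, n, ?_⟩
  have h1 := killed_of_killedBy hX p hp hcut η hV
    ((hn.res (homOfLE (show V ≤ W₁ from hle))).mono (Nat.le_succ n))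
  rw [← _root_.FTors.res_comp, ← _root_.FTors.res_hom] at h1
  exact h1

include hcut in
/-- Inverse images of power torsion modules are torsion. -/
theorem isTorsF_pull {N : _root_.ModSite.Mod X.sheaf} (hN : _root_.FTors.IsTorsZp X 𝓘 N) :
    _root_.FTors.IsTorsF 𝔛 hX.1 ((κ hX p hp).pull.obj N) := by
  let P := (κ hX p hp).pull.obj N
  let η : N ⟶ (κ hX p hp).push.obj P := (κ hX p hp).adj.unit.app N
  let g : N ⟶ (κ hX p hp).push.obj (Γt P) :=
    ⟨PresheafOfModules.homMk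
      { app := fun W => AddCommGrpCat.ofHom
          { toFun := fun s => (⟨(η.val.app W).hom s, tors_of_isTorsZp hX p hp hcut hN η W.unop s⟩ :
              _root_.FTors.torsSub (_root_.FTors.openIdealFam 𝔛 hX.1) P (pU 𝔛 p W.unop))
            map_zero' := Subtype.ext (map_zero (η.val.app W).hom)
            map_add' := fun s t => Subtype.ext (map_add (η.val.app W).hom s t) }
        naturality := fun V W i => by
          ext s
          apply Subtype.ext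
          exact PresheafOfModules.naturality_apply η.val i s }
      (fun W r s => Subtype.ext ((η.val.app W).hom.map_smul r s))⟩
  have hg : g ≫ (κ hX p hp).push.map (γ P) = η :=
    SheafOfModules.hom_ext (PresheafOfModules.hom_ext fun _ => ModuleCat.hom_ext (LinearMap.ext fun _ => rfl))
  have h1 : ((κ hX p hp).adj.homEquiv N (Γt P)).symm g ≫ γ P = 𝟙 P := by
    refine ((κ hX p hp).adj.homEquiv N P).injective ?_
    rw [Adjunction.homEquiv_naturality_right, Equiv.apply_symm_apply, hg, Adjunction.homEquiv_id]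
  haveI : IsSplitEpi (γ P) := IsSplitEpi.mk' ⟨_, h1⟩
  exact isTorsF_of_epi hX (γ P) (isTorsF_Γt P)

end Groth.L28.QCT
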