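import Groth.Agent.L28.FTors.Main
import Groth.Agent.L16.Exist.PushPull
import Mathlib.AlgebraicGeometry.Noetherian

/-!
# Direct images of quasi-coherent torsion modules
-/

set_option autoImplicit false
set_option linter.style.haveILetI false
set_option linter.unusedSectionVars false
set_option backward.isDefEq.respectTransparency false
set_option backward.isDefEq.respectTransparency.types false

universe u

open CategoryTheory CategoryTheory.Limits AlgebraicGeometry TopologicalSpace Opposite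

noncomputable section

namespace Groth.L28.QCT

open Groth.L17.FSheaf Groth.L09.IndCoh

section Compact

variable {𝔛 : FSch.Sys.{u}} (hX : 𝔛.IsLocNoethFormal) [CompactSpace (𝔛.X 0)]

include hX in
theorem isCompact_open (W : (𝔛.X 0).Opens) : IsCompact (W : Set (𝔛.X 0)) := by
  haveI := hX.2.2 0
  haveI : IsNoetherian (𝔛.X 0) := {}
  exact NoetherianSpace.isCompact _

include hX in
theorem exists_affine_cover (W : (𝔛.X 0).Opens) : ∃ (ι : Type u) (_ : Fintype ι) (U : ι → (𝔛.X 0).Opens),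
    (∀ i, IsAffineOpen (U i)) ∧ (∀ i, U i ≤ W) ∧ ∀ x ∈ W, ∃ i, x ∈ U i := by
  choose U hU hxU hle using fun x : W => Opens.isBasis_iff_nbhd.1 (𝔛.X 0).isBasis_affineOpens x.2
  obtain ⟨S, hS⟩ := (isCompact_open hX W).elim_finite_subcover (fun x : W => (U x : Set (𝔛.X 0))) (fun x => (U x).2)
    fun x hx => Set.mem_iUnion.2 ⟨⟨x, hx⟩, hxU _⟩
  refine ⟨S, inferInstance, fun x => U x.1, fun x => hU _, fun x => hle _, fun x hx => ?_⟩
  obtain ⟨y, hy, hxy⟩ := Set.mem_iUnion₂.1 (hS hx)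
  exact ⟨⟨y, hy⟩, hxy⟩

variable {M : FSch.ModF 𝔛 hX.1} (hM : QR M) (hT : _root_.FTors.IsTorsF 𝔛 hX.1 M)
include hM hT

theorem sep_compact {W : (𝔛.X 0).Opens} (b : O 𝔛 hX.1 W) (u : SF 𝔛 hX.1 M W)
    (H : rsF M (Dop_le hX.1 b) u = 0) : ∃ P, b ^ P • u = 0 := by
  obtain ⟨ι, _, U, hU, hle, hcov⟩ := exists_affine_cover hX W
  choose P hP using fun i => exists_pow_smul_eq_zero hX hM (hU i) (resO 𝔛 hX.1 (hle i) b) (rsF M (hle i) u) (hT _ _) (by
    have e : Dop hX.1 (resO 𝔛 hX.1 (hle i) b) ≤ Dop hX.1 b := (Dop_res hX.1 (hle i) b).le.trans inf_le_right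
    have h1 := (congrArg (rsF M e) H).trans (res_zero M _)
    rw [rsF_rsF] at h1 ⊢
    exact h1)
  refine ⟨Finset.univ.sup P, eq_of_locally M _ _ fun x hx => ?_⟩
  obtain ⟨i, hxi⟩ := hcov x hx
  refine ⟨U i, hle i, hxi, Eq.trans ?_ (res_zero M _).symm⟩
  show rsF M (hle i) _ = 0
  rw [rsF_pow_smul hX, ← Nat.sub_add_cancel (Finset.le_sup (Finset.mem_univ i) (f := P)), pow_add, mul_smul, hP,
    smul_zero]

theorem extend_compact (hL : LGen M) {W : (𝔛.X 0).Opens} (b : O 𝔛 hX.1 W) (t : SF 𝔛 hX.1 M (Dop hX.1 b)) :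
    ∃ (N : ℕ) (u : SF 𝔛 hX.1 M W), rsF M (Dop_le hX.1 b) u = resO 𝔛 hX.1 (Dop_le hX.1 b) b ^ N • t := by
  classical
  obtain ⟨ι, _, D, hDa, hD, hcov⟩ := exists_affine_cover hX W
  let bD : ∀ i, O 𝔛 hX.1 (D i) := fun i => resO 𝔛 hX.1 (hD i) b
  have hDb : ∀ i, Dop hX.1 (bD i) ≤ Dop hX.1 b := fun i => (Dop_res hX.1 (hD i) b).le.trans inf_le_right
  choose N v hv using fun i => extend_affine hX hM hL hT (hDa i) (bD i) (rsF M (hDb i) t)
  let N₀ := Finset.univ.sup N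
  let v' : ∀ i, SF 𝔛 hX.1 M (D i) := fun i => bD i ^ (N₀ - N i) • v i
  have hv' : ∀ i (V : (𝔛.X 0).Opens) (e₁ : V ≤ D i) (e₂ : V ≤ Dop hX.1 b),
      rsF M e₁ (v' i) = resO 𝔛 hX.1 (e₁.trans (hD i)) b ^ N₀ • rsF M e₂ t := by
    intro i V e₁ e₂
    have e₃ : V ≤ Dop hX.1 (bD i) := (le_inf e₁ e₂).trans (Dop_res hX.1 (hD i) b).ge
    have h1 := congrArg (rsF M e₃) (hv i)
    rw [rsF_pow_smul hX, rsF_rsF, rsF_rsF, resO_resO] at h1
    rw [rsF_pow_smul hX, h1, ← mul_smul, ← pow_add, Nat.sub_add_cancel (Finset.le_sup (Finset.mem_univ i))]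
    exact congrArg (fun a => a ^ N₀ • rsF M e₂ t) (resO_resO (hD i) e₁ b)
  have hvP : ∀ i (P : ℕ) (V : (𝔛.X 0).Opens) (e₁ : V ≤ D i),
      rsF M e₁ (bD i ^ P • v' i) = resO 𝔛 hX.1 (e₁.trans (hD i)) b ^ P • rsF M e₁ (v' i) := fun i P V e₁ =>
    (rsF_pow_smul hX e₁ _ P _).trans
      (congrArg (fun a => a ^ P • rsF M e₁ (v' i)) (resO_resO (hD i) e₁ b))
  have hov : ∀ p : ι × ι, ∃ P, resO 𝔛 hX.1 ((inf_le_left : D p.1 ⊓ D p.2 ≤ D p.1).trans (hD p.1)) b ^ P •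
      (rsF M (inf_le_left : D p.1 ⊓ D p.2 ≤ D p.1) (v' p.1) - rsF M inf_le_right (v' p.2)) = 0 := by
    rintro ⟨i, j⟩
    refine sep_compact hX hM hT (resO 𝔛 hX.1 ((inf_le_left : D i ⊓ D j ≤ D i).trans (hD i)) b) _ ?_
    refine (res_sub M _ _ _).trans (sub_eq_zero.2 ?_)
    have e : Dop hX.1 (resO 𝔛 hX.1 ((inf_le_left : D i ⊓ D j ≤ D i).trans (hD i)) b) ≤ Dop hX.1 b :=
      (Dop_res hX.1 _ b).le.trans inf_le_right
    refine (rsF_rsF M _ _ _).trans (((hv' i _ _ e).trans ?_).trans (rsF_rsF M _ _ _).symm)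
    exact (hv' j _ _ e).symm
  choose P hP using hov
  obtain ⟨u, hu⟩ := glue M D hD hcov (fun i => bD i ^ Finset.univ.sup P • v' i) fun i j => by
      show rsF M (inf_le_left : D i ⊓ D j ≤ D i) _ = rsF M (inf_le_right : D i ⊓ D j ≤ D j) _
      rw [hvP, hvP, ← sub_eq_zero, ← smul_sub, ← Nat.sub_add_cancel (Finset.le_sup (Finset.mem_univ (i, j)) (f := P)),
        pow_add, mul_smul, hP (i, j), smul_zero]
  refine ⟨Finset.univ.sup P + N₀, u, eq_of_locally M _ _ fun x hx => ?_⟩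
  obtain ⟨i, hxi⟩ := hcov x (Dop_le hX.1 b hx)
  refine ⟨Dop hX.1 b ⊓ D i, inf_le_left, ⟨hx, hxi⟩, ?_⟩
  have e₁ : Dop hX.1 b ⊓ D i ≤ D i := inf_le_right
  show rsF M inf_le_left (rsF M (Dop_le hX.1 b) u) = rsF M inf_le_left _
  rw [rsF_pow_smul hX, rsF_rsF, ← rsF_rsF M (hD i) e₁, show rsF M (hD i) u = _ from hu i,
    hvP, hv' i _ _ inf_le_left, resO_resO, pow_add, mul_smul]

end Compact

variable {𝔛 𝔜 : FSch.Sys.{u}} (f : 𝔛 ⟶ 𝔜) (hX : 𝔛.IsLocNoethFormal) (hY : 𝔜.IsLocNoethFormal)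

/-- The preimage of an open. -/
abbrev fU (V : (𝔜.X 0).Opens) : (𝔛.X 0).Opens := (f : FSch.Hom 𝔛 𝔜).app 0 ⁻¹ᵁ V

theorem fU_mono {V W : (𝔜.X 0).Opens} (e : V ≤ W) : fU f V ≤ fU f W := fun _ hx => e hx

/-- The map of structure sheaves on sections. -/
abbrev sh (V : (𝔜.X 0).Opens) : O 𝔜 hY.1 V →+* O 𝔛 hX.1 (fU f V) :=
  ((FSch.Hom.sharp f hX.1 hY.1).hom.app (op V)).hom

/-- A section of the direct image as a section on the preimage. -/
abbrev toM {M : FSch.ModF 𝔛 hX.1} {V : (𝔜.X 0).Opens} (x : SF 𝔜 hY.1 ((FSch.pushF f hX.1 hY.1).obj M) V) :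
    SF 𝔛 hX.1 M (fU f V) := x

theorem toM_smul {M : FSch.ModF 𝔛 hX.1} {V : (𝔜.X 0).Opens} (a : O 𝔜 hY.1 V)
    (x : SF 𝔜 hY.1 ((FSch.pushF f hX.1 hY.1).obj M) V) :
    toM f hX hY (a • x) = sh f hX hY V a • toM f hX hY x := rfl

theorem toM_res {M : FSch.ModF 𝔛 hX.1} {V W : (𝔜.X 0).Opens} (e : W ≤ V)
    (x : SF 𝔜 hY.1 ((FSch.pushF f hX.1 hY.1).obj M) V) :
    toM f hX hY (rsF _ e x) = rsF M (fU_mono f e) (toM f hX hY x) := rfl

theorem sh_resO {V W : (𝔜.X 0).Opens} (e : W ≤ V) (a : O 𝔜 hY.1 V) :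
    sh f hX hY W (resO 𝔜 hY.1 e a) = resO 𝔛 hX.1 (fU_mono f e) (sh f hX hY V a) :=
  ConcreteCategory.congr_hom ((FSch.Hom.sharp f hX.1 hY.1).hom.naturality (homOfLE e).op) a

theorem pR_sh (k : ℕ) (V : (𝔜.X 0).Opens) (a : O 𝔜 hY.1 V) :
    pR 𝔛 hX.1 k (fU f V) (sh f hX hY V a) =
      ((f : FSch.Hom 𝔛 𝔜).app k).appLE (𝔜.lvU hY.1 k V) (𝔛.lvU hX.1 k (fU f V))
        (FSch.Hom.lvU_preimage f hX.1 hY.1 k V).ge (pR 𝔜 hY.1 k V a) :=
  ConcreteCategory.congr_hom (congrArg (fun t => t.hom.app (op V)) (FSch.Hom.sharp_proj f hX.1 hY.1 k)) a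

theorem pR_sh_eq_zero {k : ℕ} {V : (𝔜.X 0).Opens} {a : O 𝔜 hY.1 V} (ha : pR 𝔜 hY.1 k V a = 0) :
    pR 𝔛 hX.1 k (fU f V) (sh f hX hY V a) = 0 := by
  rw [pR_sh, ha, map_zero]

theorem Dop_sh {V : (𝔜.X 0).Opens} (a : O 𝔜 hY.1 V) :
    Dop hX.1 (sh f hX hY V a) = fU f (Dop hY.1 a) := by
  show (𝔛.X 0).basicOpen (pR 𝔛 hX.1 0 (fU f V) (sh f hX hY V a)) = _
  rw [pR_sh]
  refine (Scheme.basicOpen_appLE _ _ _ _ _).trans (inf_eq_right.2 ?_)
  exact (fU_mono f (Dop_le hY.1 a)).trans (lvU_zero 𝔛 hX.1 _).ge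

variable {M : FSch.ModF 𝔛 hX.1}

theorem killed_push {k : ℕ} {V : (𝔜.X 0).Opens} {x : SF 𝔜 hY.1 ((FSch.pushF f hX.1 hY.1).obj M) V}
    (hx : Killed M k (toM f hX hY x)) : Killed ((FSch.pushF f hX.1 hY.1).obj M) k x :=
  killed_of fun W e a ha => by
    show toM f hX hY (a • rsF _ e x) = 0
    rw [toM_smul, toM_res]
    exact smul_eq_zero_of_killed hx _ (pR_sh_eq_zero f hX hY ha)

variable [CompactSpace (𝔛.X 0)] (hM : QR M) (hL : LGen M) (hT : _root_.FTors.IsTorsF 𝔛 hX.1 M)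
include hT

theorem isTorsF_push : _root_.FTors.IsTorsF 𝔜 hY.1 ((FSch.pushF f hX.1 hY.1).obj M) := fun V x => by
  obtain ⟨k, hk⟩ := Tors.exists_killed (isCompact_open hX (fU f V)) (hT _ (toM f hX hY x))
  exact _root_.FTors.IsTorsSect.of_killedBy (killed_push f hX hY hk)

include hM hL

theorem genOn_push {V : (𝔜.X 0).Opens} (hV : IsAffineOpen V) : GenOn ((FSch.pushF f hX.1 hY.1).obj M) V := by
  intro W hW s y hy
  obtain ⟨a, hya, ha⟩ := exists_Dop hY hV hy (hW hy)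
  refine ⟨Dop hY.1 a, ha, hya, ?_⟩
  let b := sh f hX hY V a
  have eb : Dop hX.1 b ≤ fU f (Dop hY.1 a) := (Dop_sh f hX hY a).le
  have eb' : fU f (Dop hY.1 a) ≤ Dop hX.1 b := (Dop_sh f hX hY a).ge
  obtain ⟨N, u, hu⟩ := extend_compact hX hM hT hL b (rsF M (eb.trans (fU_mono f ha)) (toM f hX hY s))
  let u' : SF 𝔜 hY.1 ((FSch.pushF f hX.1 hY.1).obj M) V := u
  have hunit : IsUnit (resO 𝔜 hY.1 (Dop_le hY.1 a) a ^ N) :=
    (isUnit_resO_of_le hY (isAffineOpen_Dop hY.1 hV a) a _ le_rfl).pow N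
  rw [eq_smul_of_unit hY hunit (x := rsF _ ha s) (y := rsF _ (Dop_le hY.1 a) u') (by
    show toM f hX hY (rsF _ (Dop_le hY.1 a) u') = toM f hX hY (resO 𝔜 hY.1 (Dop_le hY.1 a) a ^ N • rsF _ ha s)
    rw [toM_smul, toM_res, toM_res, map_pow, sh_resO]
    have h1 := congrArg (rsF M eb') hu
    rw [rsF_pow_smul hX, rsF_rsF, rsF_rsF, resO_resO] at h1
    exact h1)]
  exact Submodule.smul_mem _ _ (Submodule.subset_span ⟨u', rfl⟩)

theorem qr_push : QR ((FSch.pushF f hX.1 hY.1).obj M) := by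
  classical
  intro U₀ n y x hx
  obtain ⟨V, hV, hxV, hle⟩ := Opens.isBasis_iff_nbhd.1 (𝔜.X 0).isBasis_affineOpens hx
  refine ⟨V, hle, hV, hxV, ?_⟩
  let F := (FSch.pushF f hX.1 hY.1).obj M
  let z : Fin n → SF 𝔜 hY.1 F V := fun i => rsF F hle (y i)
  intro W hW c hc p hp
  obtain ⟨k, hk⟩ := exists_killed_family (M := M) (isCompact_open hX (fU f V)) (fun i => toM f hX hY (z i))
    fun i => hT _ _
  obtain ⟨a, hpa, ha⟩ := exists_Dop hY hV hp (hW hp)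
  let e := Dop_le hY.1 a
  choose N b hb using fun i => exists_num hY hV a k (resO 𝔜 hY.1 ha (c i))
  let N₀ := Finset.univ.sup N
  let b' : Fin n → O 𝔜 hY.1 V := fun i => a ^ (N₀ - N i) * b i
  let δ : Fin n → O 𝔜 hY.1 (Dop hY.1 a) := fun i =>
    resO 𝔜 hY.1 e a ^ N₀ * resO 𝔜 hY.1 ha (c i) - resO 𝔜 hY.1 e (b' i)
  have hδ : ∀ i, δ i ∈ J 𝔜 hY.1 (Dop hY.1 a) ^ (k + 1) := fun i => by
    have h3 := Ideal.mul_mem_left _ (resO 𝔜 hY.1 e a ^ (N₀ - N i)) (hb i)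
    rw [mul_sub, ← mul_assoc, ← pow_add, Nat.sub_add_cancel (Finset.le_sup (Finset.mem_univ i))] at h3
    convert h3 using 2
    rw [map_mul, map_pow]
  have hb0 : ∑ i, resO 𝔜 hY.1 e (b' i) • rsF F e (z i) = 0 := by
    have h1 := congrArg (rsF F ha) hc
    rw [rsF_comb F hW ha c z, show rsF F ha (0 : SF 𝔜 hY.1 F W) = 0 from res_zero F _] at h1
    have h2 := congrArg (fun t => resO 𝔜 hY.1 e a ^ N₀ • t) h1
    simp only [smul_zero, Finset.smul_sum, smul_smul] at h2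
    refine Eq.trans (Finset.sum_congr rfl fun i _ => ?_) h2
    rw [eq_comm, ← sub_eq_zero, ← sub_smul]
    show toM f hX hY (δ i • rsF F e (z i)) = 0
    rw [toM_smul, toM_res]
    exact smul_eq_zero_of_killed (hk i) _ (pR_sh_eq_zero f hX hY
      (RingHom.mem_ker.1 ((O_spec 𝔜 hY (isAffineOpen_Dop hY.1 hV a)).2.2 k ▸ hδ i)))
  let u : SF 𝔛 hX.1 M (fU f V) := toM f hX hY (∑ i, b' i • z i)
  obtain ⟨P, hP⟩ := sep_compact hX hM hT (sh f hX hY V a) u (by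
    have h1 : rsF M (fU_mono f e) u = 0 := by
      show toM f hX hY (rsF F e (∑ i, b' i • z i)) = 0
      rw [rsF_sum hY, show (∑ i, rsF F e (b' i • z i)) = 0 from
        (Finset.sum_congr rfl fun i _ => rsF_smul hY e (b' i) (z i)).trans hb0]
    have h2 := congrArg (rsF M (Dop_sh f hX hY a).le) h1
    rw [rsF_rsF] at h2
    exact h2.trans (res_zero M _))
  let r : Fin n → O 𝔜 hY.1 V := fun i => a ^ P * b' i
  have hr : r ∈ Rels F z := mem_Rels.2 (by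
    simp only [r, mul_smul, ← Finset.smul_sum]
    show toM f hX hY (a ^ P • ∑ i, b' i • z i) = 0
    rw [toM_smul, map_pow]
    exact hP)
  let S := resRels F e z
  have hJ : ∀ (i : Fin n) (t : O 𝔜 hY.1 (Dop hY.1 a)), t ∈ J 𝔜 hY.1 (Dop hY.1 a) ^ (k + 1) →
      (Pi.single i t : Fin n → O 𝔜 hY.1 (Dop hY.1 a)) ∈ S := fun i t ht => by
    rw [J_eq_map 𝔜 hY hV (isAffineOpen_Dop hY.1 hV a) e, ← Ideal.map_pow] at ht
    induction ht using Submodule.span_induction with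
    | mem t ht =>
      obtain ⟨j, hj, rfl⟩ := ht
      refine Submodule.subset_span ⟨Pi.single i j, mem_Rels.2 ?_, funext fun l => ?_⟩
      · rw [Finset.sum_eq_single i (fun l _ hl => by simp [hl]) (fun h => absurd (Finset.mem_univ i) h),
          Pi.single_eq_same]
        show toM f hX hY (j • z i) = 0
        rw [toM_smul]
        have h1 := smul_eq_zero_of_killed (hk i) le_rfl (a := sh f hX hY V j)
          (pR_sh_eq_zero f hX hY (RingHom.mem_ker.1 ((O_spec 𝔜 hY hV).2.2 k ▸ hj)))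
        rwa [show rsF M le_rfl (toM f hX hY (z i)) = toM f hX hY (z i) from res_self M _ _] at h1
      · exact Pi.apply_single (fun _ => resO 𝔜 hY.1 e) (fun _ => map_zero _) i j l
    | zero => rw [Pi.single_zero]; exact zero_mem _
    | add t t' _ _ h h' => rw [Pi.single_add]; exact add_mem h h'
    | smul s t _ h => rw [Pi.single_smul]; exact Submodule.smul_mem _ _ h
  refine ⟨Dop hY.1 a, ha, hpa, ?_⟩
  have hfin : resO 𝔜 hY.1 e a ^ (P + N₀) • (fun i => resO 𝔜 hY.1 ha (c i)) ∈ S := by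
    have hdec : resO 𝔜 hY.1 e a ^ (P + N₀) • (fun i => resO 𝔜 hY.1 ha (c i)) =
        (fun i => resO 𝔜 hY.1 e (r i)) + resO 𝔜 hY.1 e a ^ P • ∑ i, Pi.single i (δ i) := by
      rw [Finset.univ_sum_single δ]
      funext i
      simp only [r, δ, Pi.smul_apply, Pi.add_apply, smul_eq_mul, map_mul, map_pow, pow_add]
      ring
    rw [hdec]
    exact add_mem (Submodule.subset_span ⟨r, hr, rfl⟩)
      (Submodule.smul_mem _ _ (Submodule.sum_mem _ fun i _ => hJ i _ (hδ i)))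
  have hu : IsUnit (resO 𝔜 hY.1 e a ^ (P + N₀)) :=
    (isUnit_resO_of_le hY (isAffineOpen_Dop hY.1 hV a) a _ le_rfl).pow _
  exact (Submodule.smul_mem_iff_of_isUnit _ hu).1 hfin

/-- The direct image of a quasi-coherent torsion module is one. -/
theorem isQCT_push : _root_.FTors.IsQCT 𝔜 hY.1 ((FSch.pushF f hX.1 hY.1).obj M) :=
  (isQCT_iff hY).2 ⟨isTorsF_push f hX hY hT, qr_push f hX hY hM hL hT, fun y => by
    obtain ⟨V, hV, hyV, -⟩ := Opens.isBasis_iff_nbhd.1 (𝔜.X 0).isBasis_affineOpens (Opens.mem_top y)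
    exact ⟨V, hV, hyV, genOn_push f hX hY hM hL hT hV⟩⟩

end Groth.L28.QCT
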